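import Cfsg.Agent.H57.ZN.Fusion
import Cfsg.Agent.S2947
import Cfsg.Agent.S2954

/-!
ZN-groups of characteristic 2 type without strongly embedded subgroups: `O²(G)` has two maximal
2-local subgroups `S₄` meeting in a dihedral group of order 8.
-/

set_option autoImplicit false
set_option linter.unusedSectionVars false
set_option linter.style.haveILetI false

namespace Cfsg.Agent.H57.ZN

open Subgroup
open Cfsg.Agent.H70.Balanced (Four)

universe u

variable {G : Type u} [Group G] [Finite G]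

local instance : Fact (Nat.Prime 2) := ⟨Nat.prime_two⟩

namespace Config

variable {T P P' F F' : Subgroup G} {c c' z f f' : G}

theorem c_eq_one_or (C : Config T P P' F F' c c' z f f')
    (hzc : ∀ S : Sylow 2 G, centralizer (Cfsg.omegaCenterOf (S : Subgroup G) : Set G) ≤
      normalizer ((S : Subgroup G) : Set G)) : c ∈ Cfsg.pResidual 2 G → c = 1 := fun h =>
  by_contra fun hc => C.notMem_residual hc hzc h

variable (C : Config T P P' F F' c c' z f f') (hcH : c ∈ Cfsg.pResidual 2 G → c = 1)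

include C hcH in
/-- `P ∩ O²(G)` maps isomorphically onto `S₄`. -/
theorem residual_iso :
    ∃ π : ↥P →* S4, (∀ x : ↥P, π x = 1 → (x : G) = 1 ∨ (x : G) = c) ∧
      ∃ e : ↥(P.subgroupOf (Cfsg.pResidual 2 G)) ≃* S4,
        ∀ x : ↥(P.subgroupOf (Cfsg.pResidual 2 G)), e x = π ⟨((x : ↥(Cfsg.pResidual 2 G)) : G), x.2⟩ := by
  obtain ⟨π, hπ⟩ := C.left.perm
  refine ⟨π, hπ, ?_⟩
  set H := Cfsg.pResidual 2 G with hH
  let i : ↥(P.subgroupOf H) →* ↥P :=
    { toFun := fun x => ⟨((x : ↥H) : G), x.2⟩, map_one' := rfl, map_mul' := fun _ _ => rfl }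
  let φ : ↥(P.subgroupOf H) →* S4 := π.comp i
  have hinj : Function.Injective φ := by
    rw [← MonoidHom.ker_eq_bot_iff, eq_bot_iff]
    intro x hx
    rw [mem_bot]
    refine Subtype.ext (Subtype.ext ?_)
    rcases hπ _ hx with h | h
    · exact h
    · show ((x : ↥H) : G) = 1
      exact h.trans (hcH (h ▸ (x : ↥H).2))
  have h8 : 8 ∣ Nat.card ↥(P.subgroupOf H) := by
    rw [← C.card_dihedral, ← Nat.card_congr (subgroupOfEquivOfLe C.dihedral_le.2.2.2).toEquiv]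
    exact card_dvd_of_le fun x hx => C.dihedral_le.2.1 hx
  have h3 : 3 ∣ Nat.card ↥(P.subgroupOf H) := by
    haveI : Fact (Nat.Prime 3) := ⟨Nat.prime_three⟩
    obtain ⟨q, hq⟩ := exists_prime_orderOf_dvd_card' (G := ↥P) 3 (by
      rw [C.left.card]; exact Dvd.dvd.mul_right (by norm_num) _)
    have hqH : (q : G) ∈ H := Cores.mem_pResidual_of_coprime (by rw [orderOf_coe, hq]; norm_num)
    rw [← hq, ← orderOf_coe, ← Subgroup.orderOf_mk (q : G) hqH]
    exact Subgroup.orderOf_dvd_natCard _ (show (⟨(q : G), hqH⟩ : ↥H) ∈ P.subgroupOf H from q.2)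
  have h24 : 24 ∣ Nat.card ↥(P.subgroupOf H) :=
    (by norm_num : Nat.Coprime 8 3).mul_dvd_of_dvd_of_dvd h8 h3
  have hS4 : Nat.card S4 = 24 := by
    rw [Nat.card_eq_fintype_card, Fintype.card_perm, Fintype.card_fin]
    rfl
  have hle := Nat.card_le_card_of_injective φ hinj
  have heq : Nat.card ↥(P.subgroupOf H) = Nat.card S4 := by
    have := Nat.le_of_dvd Nat.card_pos h24
    omega
  exact ⟨MulEquiv.ofBijective φ ((Nat.bijective_iff_injective_and_card φ).2 ⟨hinj, heq⟩),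
    fun x => rfl⟩

include C hcH in
theorem card_residual : Nat.card ↥(P.subgroupOf (Cfsg.pResidual 2 G)) = 24 := by
  obtain ⟨π, -, e, -⟩ := C.residual_iso hcH
  rw [Nat.card_congr e.toEquiv, Nat.card_eq_fintype_card, Fintype.card_perm, Fintype.card_fin]
  rfl

include C hcH in
/-- `P ∩ O²(G)` is transitive on the involutions of `F`. -/
theorem exists_conj_residual {a b : G} (ha : a ∈ F) (ha1 : a ≠ 1) (hb : b ∈ F) (hb1 : b ≠ 1) :
    ∃ m ∈ P ⊓ Cfsg.pResidual 2 G, m * a * m⁻¹ = b := by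
  obtain ⟨π, hπ, e, he⟩ := C.residual_iso hcH
  obtain ⟨p, hp, hpa⟩ := C.left.trans a ha ha1 b hb hb1
  set m := e.symm (π ⟨p, hp⟩) with hm
  have h1 : π ⟨((m : ↥(Cfsg.pResidual 2 G)) : G), m.2⟩ = π ⟨p, hp⟩ := by
    rw [← he, hm, e.apply_symm_apply]
  refine ⟨((m : ↥(Cfsg.pResidual 2 G)) : G), ⟨m.2, (m : ↥(Cfsg.pResidual 2 G)).2⟩, ?_⟩
  have h2 := hπ ((⟨p, hp⟩ : ↥P)⁻¹ * ⟨((m : ↥(Cfsg.pResidual 2 G)) : G), m.2⟩)
    (by rw [map_mul, map_inv, h1, inv_mul_cancel])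
  have h3 : ((m : ↥(Cfsg.pResidual 2 G)) : G) = p ∨ ((m : ↥(Cfsg.pResidual 2 G)) : G) = p * c := by
    rcases h2 with h | h
    · exact Or.inl (inv_mul_eq_one.1 h).symm
    · exact Or.inr (inv_mul_eq_iff_eq_mul.1 h)
  rcases h3 with h | h <;> rw [h]
  · exact hpa
  · rw [← hpa]
    calc p * c * a * (p * c)⁻¹ = p * (c * a) * c⁻¹ * p⁻¹ := by group
      _ = p * (a * c) * c⁻¹ * p⁻¹ := by rw [C.left.ccomm a (C.left.syl.1 (C.left.le ha))]
      _ = p * a * p⁻¹ := by group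

include C hcH in
theorem not_normalizes
    (h : P ⊓ Cfsg.pResidual 2 G ≤ normalizer ((F ⊔ F' : Subgroup G) : Set G)) : False := by
  obtain ⟨m, hm, hmz⟩ := C.exists_conj_residual hcH C.zF (ZC.ne_one_of_two C.zo) C.fF C.f1
  have hf'D : m⁻¹ * f' * m ∈ T := C.dihedral_le.1 (by
    simpa using (mem_normalizer_iff.1 (h (inv_mem hm)) f').1 (mem_sup_right C.f'F))
  have h1 := C.zc _ hf'D
  refine C.noncomm ?_
  rw [← hmz]
  calc m * z * m⁻¹ * f' = m * (z * (m⁻¹ * f' * m)) * m⁻¹ := by group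
    _ = m * (m⁻¹ * f' * m * z) * m⁻¹ := by rw [h1]
    _ = f' * (m * z * m⁻¹) := by group

include C hcH in
/-- `P ∩ O²(G)` is a maximal 2-local subgroup of `O²(G)`. -/
theorem maximal_residual : Cfsg.IsMaximalTwoLocal (P.subgroupOf (Cfsg.pResidual 2 G)) := by
  set H := Cfsg.pResidual 2 G with hH
  have hF1 : F ≠ ⊥ := fun h => by
    have := C.left.four.2
    rw [h, card_bot] at this
    omega
  have hFp := H36.NilPPrime.elem_isPGroup C.left.four.1
  refine ⟨⟨F.subgroupOf H, hFp.comap_subtype, ?_, ?_⟩, ?_⟩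
  · intro h
    rw [subgroupOf_eq_bot, disjoint_iff, inf_eq_left.2 C.left.inH] at h
    exact hF1 h
  · ext x
    rw [mem_subgroupOf, ← normalizer_eq C.left, mem_normalizer_iff, mem_normalizer_iff]
    refine ⟨fun h y => by simpa [mem_subgroupOf] using h (y : G), fun h y => ?_⟩
    constructor
    · intro hy
      simpa [mem_subgroupOf] using (h ⟨y, C.left.inH hy⟩).1 hy
    · intro hy
      have hyH : y ∈ H := by
        have h1 := mul_mem (mul_mem (inv_mem x.2) (C.left.inH hy)) x.2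
        simpa [mul_assoc] using h1
      exact (h ⟨y, hyH⟩).2 (by simpa [mem_subgroupOf] using hy)
  rintro N ⟨R, hRp, hR1, rfl⟩ hMN
  set R' := R.map H.subtype with hR'
  have hR'H : R' ≤ H := map_subtype_le R
  have hMR : P ⊓ H ≤ normalizer (R' : Set G) := fun x hx =>
    le_normalizer_map H.subtype ⟨⟨x, hx.2⟩, hMN hx.1, rfl⟩
  have hFM : F ≤ P ⊓ H := le_inf (C.left.le.trans C.left.syl.1) C.left.inH
  set Q := R' ⊔ F with hQ
  have hQp : IsPGroup 2 Q := (hRp.map _).to_sup_of_normal_left' hFp (hFM.trans hMR)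
  have hMQ : P ⊓ H ≤ normalizer (Q : Set G) := fun x hx => by
    refine H39.mem_normalizer_of_conj_mem fun y hy => ?_
    have h1 : Q.map (MulAut.conj x).toMonoidHom ≤ Q := by
      rw [hQ, Subgroup.map_sup]
      exact sup_le ((H39.mem_normalizer_iff_map_conj.1 (hMR hx)).le.trans le_sup_left)
        ((H39.mem_normalizer_iff_map_conj.1 (C.left.nor hx.1)).le.trans le_sup_right)
    exact h1 ⟨y, hy, rfl⟩
  have hQF : Q = F := by
    by_contra hne
    obtain ⟨x, hxQ, hxF, hxn⟩ := H39.exists_mem_normalizer_not_mem hQp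
      (lt_of_le_of_ne (le_sup_right : F ≤ Q) (Ne.symm hne))
    rw [normalizer_eq C.left] at hxn
    set Q₀ := Q ⊓ (P ⊓ H) with hQ₀
    have hMQ₀ : P ⊓ H ≤ normalizer (Q₀ : Set G) := fun m hm =>
      H39.mem_normalizer_of_conj_mem fun y hy => mem_inf.2
        ⟨(mem_normalizer_iff.1 (hMQ hm) y).1 hy.1, mul_mem (mul_mem hm hy.2) (inv_mem hm)⟩
    have hDM : F ⊔ F' ≤ P ⊓ H := le_inf C.dihedral_le.2.1 C.dihedral_le.2.2.2
    have hp : IsPGroup 2 (Q₀ ⊔ (F ⊔ F') : Subgroup G) := (hQp.to_le inf_le_left).to_sup_of_normal_left'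
      (C.left.syl.2.1.to_le C.dihedral_le.1) (hDM.trans hMQ₀)
    have hM : Nat.card ↥(P ⊓ H : Subgroup G) = 24 := by
      rw [← C.card_residual hcH, ← hH, ← inf_subgroupOf_right P H]
      exact (Nat.card_congr (subgroupOfEquivOfLe inf_le_right).toEquiv).symm
    have hd := card_dvd_of_le (sup_le inf_le_right hDM : Q₀ ⊔ (F ⊔ F') ≤ P ⊓ H)
    rw [hM] at hd
    obtain ⟨n, hn⟩ := IsPGroup.iff_card.1 hp
    rw [hn] at hd
    have h8 : 2 ^ n ≤ 8 := by
      have h1 := (Nat.Coprime.pow_left n (by norm_num : Nat.Coprime 2 3)).dvd_of_dvd_mul_right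
        (show 2 ^ n ∣ 8 * 3 from hd)
      exact Nat.le_of_dvd (by norm_num) h1
    have he : F ⊔ F' = Q₀ ⊔ (F ⊔ F') := eq_of_le_of_card_ge le_sup_right
      (by rw [hn, C.card_dihedral]; exact h8)
    have hQD : Q₀ ≤ F ⊔ F' := he.symm ▸ le_sup_left
    have hxH : x ∈ H := (sup_le hR'H C.left.inH : Q ≤ H) hxQ
    have hlt : F < Q₀ := lt_of_le_of_ne (le_inf le_sup_right hFM) fun h =>
      hxF (h ▸ (mem_inf.2 ⟨hxQ, hxn, hxH⟩ : x ∈ Q₀))
    have hQ₀D : Q₀ = F ⊔ F' := eq_of_le_of_card_ge hQD (by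
      have h := H70.Balanced.card_two_le_of_lt (hQp.to_le inf_le_left) hlt
      rw [C.left.four.2] at h
      rw [C.card_dihedral]
      omega)
    exact C.not_normalizes hcH (hQ₀D ▸ hMQ₀)
  have hR'F : R' ≤ F := hQF ▸ le_sup_left
  have hR'1 : R' ≠ ⊥ := fun h => hR1 ((map_eq_bot_iff_of_injective _ H.subtype_injective).1 h)
  obtain ⟨a, haR, ha1⟩ := (R'.bot_or_exists_ne_one).resolve_left hR'1
  have hFR : R' = F := le_antisymm hR'F fun b hb => by
    by_cases hb1 : b = 1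
    · rw [hb1]; exact one_mem _
    obtain ⟨m, hm, hmb⟩ := C.exists_conj_residual hcH (hR'F haR) ha1 hb hb1
    rw [← hmb]
    exact (mem_normalizer_iff.1 (hMR hm) a).1 haR
  refine le_antisymm (fun x hx => ?_) hMN
  rw [mem_subgroupOf, ← normalizer_eq C.left, ← hFR]
  exact le_normalizer_map H.subtype ⟨x, hx, rfl⟩

include C hcH in
/-- `F` is self-centralising in `O²(G)`. -/
theorem self_centralizing {x : G} (hxH : x ∈ Cfsg.pResidual 2 G)
    (hx : x ∈ centralizer (F : Set G)) : x ∈ F := by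
  have hxP : x ∈ P := by rw [← normalizer_eq C.left]; exact centralizer_le_normalizer _ hx
  rcases C.left.cent x hxP hx with h | h
  · exact h
  · have hc : c = 1 := hcH ((Subgroup.mul_mem_cancel_left _ hxH).1 (C.left.inH h))
    rwa [hc, mul_one] at h

end Config

theorem exists_maxStraddling (M : Subgroup G) (h : Cfsg.straddlingTwoSubgroups M ≠ ∅) :
    ∃ T, T ∈ Cfsg.maxStraddlingTwoSubgroups M := by
  classical
  let key : Subgroup G → ℕ ×ₗ (ℕ ×ₗ ℕ) := fun T => toLex (Cfsg.maxElemAbelianOrder T,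
    toLex (Nat.card ↥(Cfsg.thompsonSubgroupOf 2 T), Nat.card ↥T))
  obtain ⟨T, hT, hmax⟩ := Set.exists_max_image (Cfsg.straddlingTwoSubgroups M) key (Set.toFinite _)
    (Set.nonempty_iff_ne_empty.2 h)
  refine ⟨T, hT, fun U hU => ?_⟩
  have h1 := hmax U hU
  simp only [key, Prod.Lex.le_iff, ofLex_toLex] at h1
  rcases h1 with h2 | ⟨h2, h3 | ⟨h3, h4⟩⟩
  · exact ⟨h2.le, fun e => absurd e h2.ne⟩
  · exact ⟨h2.le, fun _ => ⟨h3.le, fun e => absurd e h3.ne⟩⟩
  · exact ⟨h2.le, fun _ => ⟨h3.le, fun _ => h4⟩⟩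

/-- The structure of a ZN-group of characteristic 2 type. -/
theorem core (hL : Cfsg.IsCharacteristicTwoType G)
    (hN : ∀ N : Subgroup G, Cfsg.IsTwoLocal N → Group.IsSolvable ↥N)
    (hZ : ∀ S : Sylow 2 G, centralizer (Cfsg.omegaCenterOf (S : Subgroup G) : Set G) ≤
      normalizer ((S : Subgroup G) : Set G))
    (hO : Cfsg.pCore 2 G = ⊥) :
    (∃ K : Subgroup G, Cfsg.IsStronglyEmbedded K) ∨
      ∃ (T P P' F F' : Subgroup G) (c c' z f f' : G), Config T P P' F F' c c' z f f' ∧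
        (c ∈ Cfsg.pResidual 2 G → c = 1) ∧ (c' ∈ Cfsg.pResidual 2 G → c' = 1) := by
  obtain ⟨S⟩ := (inferInstance : Nonempty (Sylow 2 G))
  have hS : (S : Subgroup G) ≠ ⊥ := by
    intro h
    have h1 := S.not_dvd_index
    rw [h, index_bot] at h1
    exact h1 (even_iff_two_dvd.1 hL.1)
  have hJp : IsPGroup 2 (Cfsg.thompsonSubgroupOf 2 (S : Subgroup G)) :=
    S.isPGroup'.to_le (map_subtype_le _)
  have hJ1 : Cfsg.thompsonSubgroupOf 2 (S : Subgroup G) ≠ ⊥ := by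
    rw [H85.ZN.tJ_eq]
    exact H85.ZN.jay_ne_bot S.isPGroup' hS
  set M := normalizer (Cfsg.thompsonSubgroupOf 2 (S : Subgroup G) : Set G) with hMdef
  have hM : Cfsg.IsTwoLocal M := ⟨_, hJp, hJ1, rfl⟩
  by_cases hstr : Cfsg.straddlingTwoSubgroups M = ∅
  · exact Or.inl ⟨M, (S2947.result hL hN hZ hO S M hM le_rfl).2 hstr⟩
  obtain ⟨T, hT⟩ := exists_maxStraddling M hstr
  obtain ⟨P, P', hne, hP, hP', hTP, hTP', hcase⟩ := S2954.result hL hN hZ hO S M hM le_rfl T hT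
  obtain ⟨F, F', c, c', hX, hY⟩ : ∃ F F' c c', Piece T P F c ∧ Piece T P' F' c' := by
    rcases hcase with ⟨⟨e⟩, ⟨e'⟩⟩ | ⟨⟨e⟩, ⟨e'⟩⟩
    · obtain ⟨F, hF⟩ := piece_of_perm hP hTP e
      obtain ⟨F', hF'⟩ := piece_of_perm hP' hTP' e'
      exact ⟨F, F', 1, 1, hF, hF'⟩
    · obtain ⟨F, c, -, hF⟩ := piece_of_perm_prod hP hTP e
      obtain ⟨F', c', -, hF'⟩ := piece_of_perm_prod hP' hTP' e'
      exact ⟨F, F', c, c', hF, hF'⟩
  obtain ⟨z, f, f', C⟩ := exists_config hX hY hne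
  exact Or.inr ⟨T, P, P', F, F', c, c', z, f, f', C, C.c_eq_one_or hZ, C.symm.c_eq_one_or hZ⟩

end Cfsg.Agent.H57.ZN
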