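import Cfsg.Agent.H57.ZN.Pair

/-!
In the case `2 × S₄` the central involutions lie outside `O²(G)`.
-/

set_option autoImplicit false
set_option linter.unusedSectionVars false
set_option linter.style.haveILetI false

namespace Cfsg.Agent.H57.ZN.Config

open Subgroup
open Cfsg.Agent.H70.Balanced (Four)

universe u

variable {G : Type u} [Group G] [Finite G]

local instance : Fact (Nat.Prime 2) := ⟨Nat.prime_two⟩

variable {T P P' F F' : Subgroup G} {c c' z f f' : G}

theorem central_dihedral (C : Config T P P' F F' c c' z f f') {d : G} (hd : d ∈ F ⊔ F')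
    (hd2 : d * d = 1) (hf : f * d = d * f) (hf' : f' * d = d * f') : d = 1 ∨ d = z := by
  rcases C.mem_four_of_sq hd hd2 with h | h
  · rcases C.cases h with h1 | h1 | h1 | h1
    · exact Or.inl h1
    · exact Or.inr h1
    · exact absurd (by rw [h1] at hf'; exact hf'.symm) C.noncomm
    · refine absurd (mul_right_cancel (b := z) ?_) C.noncomm
      rw [h1] at hf'
      rw [mul_assoc, C.zc f' (C.right.le C.f'F), ← mul_assoc, ← hf', mul_assoc]
  · rcases C.symm.cases h with h1 | h1 | h1 | h1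
    · exact Or.inl h1
    · exact Or.inr h1
    · exact absurd (by rw [h1] at hf; exact hf) C.noncomm
    · refine absurd (mul_right_cancel (b := z) ?_) C.noncomm
      rw [h1] at hf
      rw [mul_assoc, hf, mul_assoc, mul_assoc, ← C.zc f (C.left.le C.fF)]

theorem c'_ne_one (C : Config T P P' F F' c c' z f f') (hc : c ≠ 1) : c' ≠ 1 := by
  intro h
  have h1 := C.left.cardT
  rw [C.right.cardT, h, orderOf_one, ZC.two_of_sq (by rw [pow_two]; exact C.left.csq) hc] at h1
  omega

theorem central_involution (C : Config T P P' F F' c c' z f f') (hc : c ≠ 1) {w : G} (hw : w ∈ T)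
    (hw2 : w * w = 1) (hwT : ∀ t ∈ T, t * w = w * t) : w = 1 ∨ w = z ∨ w = c ∨ w = c' := by
  rcases C.mem_cases hc hw with h | h
  · rcases C.central_dihedral h hw2 (hwT f (C.left.le C.fF)) (hwT f' (C.right.le C.f'F)) with h1 | h1
    exacts [Or.inl h1, Or.inr (Or.inl h1)]
  · have hcomm : ∀ t ∈ T, t * (c * w) = c * w * t := fun t ht =>
      ((show Commute t c from C.left.ccomm t (C.left.syl.1 ht)).mul_right
        (show Commute t w from hwT t ht)).eq
    have hsq : c * w * (c * w) = 1 := by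
      calc c * w * (c * w) = c * (w * c) * w := by group
        _ = c * (c * w) * w := by rw [hwT c C.left.cmem]
        _ = c * c * (w * w) := by group
        _ = 1 := by rw [C.left.csq, hw2, one_mul]
    have hw' : w = c * (c * w) := by rw [← mul_assoc, C.left.csq, one_mul]
    rcases C.central_dihedral h hsq (hcomm f (C.left.le C.fF)) (hcomm f' (C.right.le C.f'F)) with h1 | h1
    · exact Or.inr (Or.inr (Or.inl (by rw [hw', h1, mul_one])))
    · exact Or.inr (Or.inr (Or.inr (by rw [hw', h1, C.c'_eq hc])))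

/-- `c` is no square of a 2-element of `P`. -/
theorem c_not_square (C : Config T P P' F F' c c' z f f') (hc : c ≠ 1) {q : G} (hqP : q ∈ P)
    (hq : IsPGroup 2 (zpowers q)) : q * q ≠ c := by
  intro h
  have hidx : ¬ 2 ∣ (T.subgroupOf P).index :=
    fun h2 => Nat.not_even_iff_odd.2 C.left.syl.2.2 (even_iff_two_dvd.2 h2)
  obtain ⟨p, hp⟩ := H39.exists_conj_le_sylow (hq.comap_subtype (K := P))
    ((C.left.syl.2.1.comap_subtype (K := P)).toSylow hidx)
  have hpq : (p : G) * q * (p : G)⁻¹ ∈ T := hp (⟨q, hqP⟩ : ↥P) (mem_zpowers q)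
  have h1 := C.left.sq _ hpq
  rw [show (p : G) * q * (p : G)⁻¹ * ((p : G) * q * (p : G)⁻¹) = (p : G) * (q * q) * (p : G)⁻¹ by group,
    h, C.left.ccomm p p.2, mul_inv_cancel_right] at h1
  exact hc (C.left.cnot h1)

/-- `z` is a square in `T`. -/
theorem z_square (C : Config T P P' F F' c c' z f f') : f * f' * (f * f') = z := by
  have h := C.conj_f
  rw [inv_eq_of_mul_eq_one_right (show f' * f' = 1 by rw [← pow_two]; exact C.right.four.1.2 f' C.f'F)] at h
  calc f * f' * (f * f') = f * (f' * f * f') := by group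
    _ = f * f * z := by rw [h, ← mul_assoc]
    _ = z := by rw [← pow_two, C.left.four.1.2 f C.fF, one_mul]

theorem not_isConj_z (C : Config T P P' F F' c c' z f f') (hc : c ≠ 1) : ¬ IsConj z c := by
  intro h
  obtain ⟨g, hg⟩ := isConj_iff.1 h
  have ht : f * f' ∈ T := mul_mem (C.left.le C.fF) (C.right.le C.f'F)
  have hqP : g * (f * f') * g⁻¹ ∈ P := by
    rw [← centralizer_eq C.left hc, ← hg, mem_centralizer_singleton_iff]
    calc g * (f * f') * g⁻¹ * (g * z * g⁻¹) = g * (f * f' * z) * g⁻¹ := by group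
      _ = g * (z * (f * f')) * g⁻¹ := by rw [C.zc _ ht]
      _ = _ := by group
  obtain ⟨n, hn⟩ := IsPGroup.iff_orderOf.1 C.left.syl.2.1 ⟨f * f', ht⟩
  rw [Subgroup.orderOf_mk] at hn
  refine C.c_not_square hc hqP (ZC.isPGroup_zpowers_of_pow (n := n) ?_) ?_
  · rw [conj_pow, ← hn, pow_orderOf_eq_one, mul_one, mul_inv_cancel]
  · calc g * (f * f') * g⁻¹ * (g * (f * f') * g⁻¹) = g * (f * f' * (f * f')) * g⁻¹ := by group
      _ = c := by rw [C.z_square, hg]

/-- An element exchanging `c` and `c'` carries `F` to `F'`. -/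
theorem map_four (C : Config T P P' F F' c c' z f f') (hc : c ≠ 1) {s : G}
    (_hsT : s ∈ normalizer (T : Set G)) (hsz : s * z = z * s) (hsc : s * c * s⁻¹ = c') {a : G}
    (ha : a ∈ F) : s * a * s⁻¹ ∈ F' := by
  set F₂ := F.map (MulAut.conj s).toMonoidHom with hF₂
  have hz2 : z ∈ F₂ := ⟨z, C.zF, by
    show s * z * s⁻¹ = z
    rw [hsz, mul_inv_cancel_right]⟩
  have hn : P' ≤ normalizer (F₂ : Set G) := by
    intro x hx
    have hxP : s⁻¹ * x * s ∈ P := by
      rw [← centralizer_eq C.left hc, mem_centralizer_singleton_iff]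
      have h1 := C.right.ccomm x hx
      rw [← hsc] at h1
      calc s⁻¹ * x * s * c = s⁻¹ * (x * (s * c * s⁻¹)) * s := by group
        _ = c * (s⁻¹ * x * s) := by rw [h1]; group
    refine H39.mem_normalizer_of_conj_mem fun y hy => ?_
    obtain ⟨y₀, hy₀, rfl⟩ := hy
    refine ⟨_, (mem_normalizer_iff.1 (C.left.nor hxP) y₀).1 hy₀, ?_⟩
    show s * (s⁻¹ * x * s * y₀ * (s⁻¹ * x * s)⁻¹) * s⁻¹ = x * (s * y₀ * s⁻¹) * x⁻¹
    group
  have hle : F' ≤ F₂ := fun b hb => by
    by_cases hb1 : b = 1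
    · rw [hb1]; exact one_mem _
    obtain ⟨p, hp, hpb⟩ := C.right.trans z C.zF' (ZC.ne_one_of_two C.zo) b hb hb1
    rw [← hpb]
    exact (mem_normalizer_iff.1 (hn hp) z).1 hz2
  rw [eq_of_le_of_card_ge hle (by rw [hF₂, H39.card_map_conj, C.left.four.2, C.right.four.2])]
  exact ⟨a, ha, rfl⟩

/-- A normal four-group of an overgroup of `T` is central in `T`. -/
theorem four_central (C : Config T P P' F F' c c' z f f') (hc : c ≠ 1) {x e : G}
    (hxT : x ∈ normalizer (T : Set G)) (hxz : x * z = z * x) (hxc : x * c * x⁻¹ = c')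
    (he1 : e ≠ 1) (hez : e ≠ z) (heQ : e ∈ F ∨ c * e ∈ F)
    (hxe : x * e * x⁻¹ = e ∨ x * e * x⁻¹ = e * z) : e = c ∨ e = c' := by
  have key : ∀ a : G, a * z ∈ F' → a ∈ F' := fun a ha => (F'.mul_mem_cancel_right C.zF').1 ha
  rcases heQ with h | h
  · exfalso
    have h1 := C.map_four hc hxT hxz hxc h
    have h2 : e ∈ F' := by
      rcases hxe with h3 | h3 <;> rw [h3] at h1
      exacts [h1, key _ h1]
    rcases C.inf_eq h h2 with h3 | h3
    exacts [he1 h3, hez h3]
  · have h1 := C.map_four hc hxT hxz hxc h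
    rw [← conj_mul, hxc] at h1
    have h2 : c' * e ∈ F' := by
      rcases hxe with h3 | h3 <;> rw [h3] at h1
      · exact h1
      · exact key _ (by rwa [mul_assoc])
    have h4 : c * e ∈ F' := by
      rw [C.c'_eq hc, C.zc c C.left.cmem, mul_assoc] at h2
      exact (F'.mul_mem_cancel_left C.zF').1 h2
    have he : e = c * (c * e) := by rw [← mul_assoc, C.left.csq, one_mul]
    rcases C.inf_eq h h4 with h3 | h3
    · exact Or.inl (by rw [he, h3, mul_one])
    · exact Or.inr (by rw [he, h3, C.c'_eq hc])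

theorem fix_mem (C : Config T P P' F F' c c' z f f') (hc : c ≠ 1) {S : Subgroup G}
    (hS : IsPGroup 2 S) (hTS : T ≤ S) {s : G} (hs : s ∈ S) (hsc : s * c = c * s) : s ∈ T :=
  le_of_sylowIn C.left.syl (inf_le_right (a := S)) (hS.to_le inf_le_left)
    ((le_inf hTS C.left.syl.1).trans Subgroup.le_normalizer)
    (mem_inf.2 ⟨hs, by rw [← centralizer_eq C.left hc]; exact mem_centralizer_singleton_iff.2 hsc⟩)

/-- The action of an overgroup of `T` on the central involutions. -/
theorem overgroup (C : Config T P P' F F' c c' z f f') (hc : c ≠ 1) {S : Subgroup G}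
    (hS : IsPGroup 2 S) (hTS : T ≤ S) :
    (∀ s ∈ S, s * z = z * s) ∧ (∀ s ∈ S, s * c * s⁻¹ = c ∨ s * c * s⁻¹ = c') ∧
      (¬ S ≤ T → ∀ w ∈ S, w * w = 1 → (∀ s ∈ S, s * w = w * s) → w = 1 ∨ w = z) := by
  have hcT : ∀ s ∈ S, s * c = c * s → s ∈ T := fun s hs hsc =>
    le_of_sylowIn C.left.syl (inf_le_right (a := S)) (hS.to_le inf_le_left)
      ((le_inf hTS C.left.syl.1).trans Subgroup.le_normalizer)
      ⟨hs, by rw [← centralizer_eq C.left hc]; exact mem_centralizer_singleton_iff.2 hsc⟩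
  have hc'T : ∀ s ∈ S, s * c' = c' * s → s ∈ T := fun s hs hsc =>
    le_of_sylowIn C.right.syl (inf_le_right (a := S)) (hS.to_le inf_le_left)
      ((le_inf hTS C.right.syl.1).trans Subgroup.le_normalizer)
      ⟨hs, by rw [← centralizer_eq C.right (C.c'_ne_one hc)]; exact mem_centralizer_singleton_iff.2 hsc⟩
  have hcen : ¬ S ≤ T → ∀ w ∈ S, w * w = 1 → (∀ s ∈ S, s * w = w * s) → w = 1 ∨ w = z := by
    intro hST w hw hw2 hwS
    have hwT : w ∈ T := hcT w hw (hwS c (hTS C.left.cmem)).symm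
    rcases C.central_involution hc hwT hw2 (fun t ht => hwS t (hTS ht)) with h | h | h | h
    · exact Or.inl h
    · exact Or.inr h
    · exact absurd (fun s hs => hcT s hs (h ▸ hwS s hs)) hST
    · exact absurd (fun s hs => hc'T s hs (h ▸ hwS s hs)) hST
  by_cases hST : S ≤ T
  · exact ⟨fun s hs => C.zc s (hST hs), fun s hs => Or.inl (by
      rw [C.left.ccomm s (C.left.syl.1 (hST hs)), mul_inv_cancel_right]), hcen⟩
  obtain ⟨E, w, hE, hES, hSE, hwE, hwo, hwS⟩ := ZC.exists_normal_four_central hS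
    (ZC.eight_sup (C.left.le.trans hTS) C.left.four.1 C.left.four.2.ge (hTS C.left.cmem)
      (by rw [pow_two]; exact C.left.csq)
      (fun a ha => C.left.ccomm a (C.left.syl.1 (C.left.le ha))) fun h => hc (C.left.cnot h))
  obtain rfl : w = z := (hcen hST w (hES hwE) (ZC.mul_self_eq_one hwo) hwS).resolve_left
    (ZC.ne_one_of_two hwo)
  obtain ⟨e, heE, he1, hez⟩ := ZC.exists_four_gen hE w
  have heS := hES heE
  have hw1 := ZC.ne_one_of_two hwo
  have he2 : e * e = 1 := by rw [← pow_two]; exact hE.1.2 e heE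
  have hconj : ∀ s ∈ S, s * e * s⁻¹ = e ∨ s * e * s⁻¹ = e * w := fun s hs => by
    by_cases h : s ∈ centralizer (E : Set G)
    · left
      rw [← mem_centralizer_iff.1 h e heE, mul_inv_cancel_right]
    · exact Or.inr (ZC.conj_four hE hwE heE hw1 he1 hez (hSE hs) (hwS s hs) h)
  have hcomm : ∀ t ∈ S, e * t * e⁻¹ = t ∨ e * t * e⁻¹ = w * t := fun t ht => by
    rw [inv_eq_of_mul_eq_one_right he2]
    rcases hconj t ht with h | h <;> rw [mul_inv_eq_iff_eq_mul] at h
    · left
      rw [mul_assoc, h, ← mul_assoc, he2, one_mul]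
    · right
      rw [mul_assoc, h, ← mul_assoc, ← mul_assoc, he2, one_mul]
  have heF : e ∈ normalizer (F : Set G) := H39.mem_normalizer_of_conj_mem fun a ha => by
    rcases hcomm a (hTS (C.left.le ha)) with h | h <;> rw [h]
    exacts [ha, mul_mem C.zF ha]
  have heT : e ∈ T := le_of_sylowIn C.left.syl (inf_le_right (a := S)) (hS.to_le inf_le_left)
    ((le_inf hTS C.left.syl.1).trans Subgroup.le_normalizer)
    ⟨heS, by rw [← normalizer_eq C.left]; exact heF⟩
  obtain ⟨x, hxS, hxT, hxn⟩ := H39.exists_mem_normalizer_not_mem hS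
    (lt_of_le_not_ge hTS hST)
  have hxw : x * w = w * x := hwS x hxS
  have himg : ∀ d : G, (∀ t ∈ T, t * d = d * t) → d ∈ T → d * d = 1 →
      (∀ t ∈ T, t * (x * d * x⁻¹) = x * d * x⁻¹ * t) ∧ x * d * x⁻¹ ∈ T ∧ x * d * x⁻¹ * (x * d * x⁻¹) = 1 := by
    intro d hd hdT hd2
    refine ⟨fun t ht => ?_, (mem_normalizer_iff.1 hxn d).1 hdT, ?_⟩
    · have h1 := hd (x⁻¹ * t * x) (by simpa using (mem_normalizer_iff.1 (inv_mem hxn) t).1 ht)
      calc t * (x * d * x⁻¹) = x * (x⁻¹ * t * x * d) * x⁻¹ := by group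
        _ = _ := by rw [h1]; group
    · rw [show x * d * x⁻¹ * (x * d * x⁻¹) = x * (d * d) * x⁻¹ by group, hd2, mul_one, mul_inv_cancel]
  obtain ⟨hi1, hi2, hi3⟩ := himg c (fun t ht => C.left.ccomm t (C.left.syl.1 ht)) C.left.cmem C.left.csq
  have hxc : x * c * x⁻¹ = c' := by
    rcases C.central_involution hc hi2 hi3 hi1 with h | h | h | h
    · exact absurd (conj_eq_one_iff.1 h) hc
    · exfalso
      rw [mul_inv_eq_iff_eq_mul, ← hxw] at h
      exact C.not_isConj_z hc (mul_left_cancel h ▸ IsConj.refl _)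
    · rw [mul_inv_eq_iff_eq_mul] at h
      exact absurd (hcT x hxS h) hxT
    · exact h
  obtain ⟨hj1, hj2, hj3⟩ := himg c' (fun t ht => C.right.ccomm t (C.right.syl.1 ht)) C.right.cmem C.right.csq
  have hxc' : x * c' * x⁻¹ = c := by
    rcases C.central_involution hc hj2 hj3 hj1 with h | h | h | h
    · exact absurd (conj_eq_one_iff.1 h) (C.c'_ne_one hc)
    · exfalso
      rw [mul_inv_eq_iff_eq_mul, ← hxw] at h
      exact C.symm.not_isConj_z (C.c'_ne_one hc) (mul_left_cancel h ▸ IsConj.refl _)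
    · exact h
    · rw [mul_inv_eq_iff_eq_mul] at h
      exact absurd (hc'T x hxS h) hxT
  have hce2 : c * e * (c * e) = 1 := by
    calc c * e * (c * e) = c * (e * c) * e := by group
      _ = c * (c * e) * e := by rw [C.left.ccomm e (C.left.syl.1 heT)]
      _ = c * c * (e * e) := by group
      _ = 1 := by rw [C.left.csq, he2, one_mul]
  have hec : e = c ∨ e = c' := by
    have h1 : (e ∈ F ∨ c * e ∈ F) ∨ (e ∈ F' ∨ c' * e ∈ F') := by
      rcases C.mem_cases hc heT with h | h
      · rcases C.mem_four_of_sq h he2 with h1 | h1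
        exacts [Or.inl (Or.inl h1), Or.inr (Or.inl h1)]
      · rcases C.mem_four_of_sq h hce2 with h1 | h1
        · exact Or.inl (Or.inr h1)
        · refine Or.inr (Or.inr ?_)
          rw [C.c'_eq hc, C.zc c C.left.cmem, mul_assoc]
          exact mul_mem C.zF' h1
    rcases h1 with h1 | h1
    · exact C.four_central hc hxn hxw hxc he1 hez h1 (hconj x hxS)
    · exact (C.symm.four_central (C.c'_ne_one hc) hxn hxw hxc' he1 hez h1 (hconj x hxS)).symm
  refine ⟨hwS, fun s hs => ?_, hcen⟩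
  rcases hec with h | h
  · rw [C.c'_eq hc, ← h]
    exact hconj s hs
  · have hc2 : c = c' * w := by
      rw [C.c'_eq hc, mul_assoc, ZC.mul_self_eq_one hwo, mul_one]
    rw [hc2, ← conj_mul, hwS s hs, mul_inv_cancel_right, ← h]
    rcases hconj s hs with h1 | h1 <;> rw [h1]
    · exact Or.inl rfl
    · refine Or.inr ?_
      rw [mul_assoc, ZC.mul_self_eq_one hwo, mul_one]

/-- Conjugates of `c` in a Sylow 2-subgroup containing `T` lie in `c (F ⊔ F')`. -/
theorem conj_mem_coset (C : Config T P P' F F' c c' z f f') (hc : c ≠ 1) (S : Sylow 2 G)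
    (hzc : centralizer (Cfsg.omegaCenterOf (S : Subgroup G) : Set G) ≤ normalizer ((S : Subgroup G) : Set G))
    (hTS : T ≤ (S : Subgroup G)) {g : G} (hgS : g * c * g⁻¹ ∈ (S : Subgroup G)) :
    c * (g * c * g⁻¹) ∈ F ⊔ F' := by
  set w := g * c * g⁻¹ with hw
  have hw2 : w * w = 1 := by
    rw [hw, show g * c * g⁻¹ * (g * c * g⁻¹) = g * (c * c) * g⁻¹ by group, C.left.csq, mul_one,
      mul_inv_cancel]
  obtain ⟨hzS, hcS, hcen⟩ := C.overgroup hc S.isPGroup' hTS
  by_cases hwT : w ∈ T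
  · rcases C.mem_cases hc hwT with h | h
    · exfalso
      have hw1 : w ≠ 1 := fun h1 => hc (conj_eq_one_iff.1 h1)
      have hzw : IsConj z w := by
        rcases C.mem_four_of_sq h hw2 with h1 | h1
        · exact C.not_isConj_one h1 hw1
        · exact C.symm.not_isConj_one h1 hw1
      exact C.not_isConj_z hc (hzw.trans (isConj_iff.2 ⟨g, rfl⟩).symm)
    · exact h
  exfalso
  have hST : ¬ (S : Subgroup G) ≤ T := fun h => hwT (h hgS)
  have hwz : w * z = z * w := hzS w hgS
  have hwc : w * c * w⁻¹ = c' := (hcS w hgS).resolve_left fun h => by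
    refine hwT (C.fix_mem hc S.isPGroup' hTS hgS ?_)
    rwa [mul_inv_eq_iff_eq_mul] at h
  have hwn : w ∈ normalizer (T : Set G) := by
    refine H39.mem_normalizer_of_conj_mem fun t ht => ?_
    refine C.symm.fix_mem (C.c'_ne_one hc) S.isPGroup' hTS
      (mul_mem (mul_mem hgS (hTS ht)) (inv_mem hgS)) ?_
    rw [← hwc]
    calc w * t * w⁻¹ * (w * c * w⁻¹) = w * (t * c) * w⁻¹ := by group
      _ = w * (c * t) * w⁻¹ := by rw [C.left.ccomm t (C.left.syl.1 ht)]
      _ = _ := by group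
  set u₀ := w * f * w⁻¹ with hu₀
  have hu₀F : u₀ ∈ F' := C.map_four hc hwn hwz hwc C.fF
  have hu₀1 : u₀ ≠ 1 := fun h => C.f1 (conj_eq_one_iff.1 h)
  have hu₀z : u₀ ≠ z := fun h => C.fz (by
    rw [hu₀, mul_inv_eq_iff_eq_mul, ← hwz] at h
    exact mul_left_cancel h)
  have hu₀f : u₀ * f * u₀⁻¹ = f * z := by
    refine ZC.conj_four C.left.four C.zF C.fF (ZC.ne_one_of_two C.zo) C.f1 C.fz
      (C.left.nor (C.left.syl.1 (C.right.le hu₀F))) (C.zc u₀ (C.right.le hu₀F)) fun h => ?_
    have h1 := mem_centralizer_iff.1 h f C.fF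
    rcases C.symm.cases hu₀F with h2 | h2 | h2 | h2
    · exact hu₀1 h2
    · exact hu₀z h2
    · exact C.noncomm (h2 ▸ h1)
    · rw [h2] at h1
      refine C.noncomm (mul_right_cancel (b := z) ?_)
      rw [mul_assoc, h1, mul_assoc, mul_assoc, ← C.zc f (C.left.le C.fF)]
  have hu₀2 : u₀ * u₀ = 1 := by rw [← pow_two]; exact C.right.four.1.2 u₀ hu₀F
  have hu₀f' : u₀ * f = f * z * u₀ := by rwa [mul_inv_eq_iff_eq_mul] at hu₀f
  set k := c * (f * u₀) with hk
  have hf2 : f * f = 1 := by rw [← pow_two]; exact C.left.four.1.2 f C.fF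
  have hcf : c * f = f * c := (C.left.ccomm f (C.left.syl.1 (C.left.le C.fF))).symm
  have hwk : w * k * w⁻¹ = k := by
    have hback : w * u₀ * w⁻¹ = f := by
      rw [hu₀, show w * (w * f * w⁻¹) * w⁻¹ = (w * w) * f * (w * w)⁻¹ by group, hw2, one_mul, inv_one, mul_one]
    calc w * k * w⁻¹ = (w * c * w⁻¹) * ((w * f * w⁻¹) * (w * u₀ * w⁻¹)) := by rw [hk]; group
      _ = c * z * (u₀ * f) := by rw [hwc, ← hu₀, hback, C.c'_eq hc]
      _ = c * (z * f) * (z * u₀) := by rw [hu₀f']; group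
      _ = c * (f * z) * (z * u₀) := by rw [C.zc f (C.left.le C.fF)]
      _ = c * f * (z * z) * u₀ := by group
      _ = k := by rw [ZC.mul_self_eq_one C.zo, mul_one, hk, mul_assoc]
  have hkk : k * k = z := by
    have hfu : f * u₀ ∈ T := mul_mem (C.left.le C.fF) (C.right.le hu₀F)
    calc k * k = c * (f * u₀ * c) * (f * u₀) := by rw [hk]; group
      _ = c * (c * (f * u₀)) * (f * u₀) := by rw [C.left.ccomm _ (C.left.syl.1 hfu)]
      _ = c * c * (f * (u₀ * f) * u₀) := by group
      _ = f * f * (z * (u₀ * u₀)) := by rw [C.left.csq, one_mul, hu₀f']; group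
      _ = z := by rw [hf2, hu₀2, one_mul, mul_one]
  set U := (S : Subgroup G) ⊓ centralizer ({w} : Set G) with hU
  have hkU : k ∈ U := ⟨hTS (mul_mem C.left.cmem (mul_mem (C.left.le C.fF) (C.right.le hu₀F))),
    mem_centralizer_singleton_iff.2 (by rw [mul_inv_eq_iff_eq_mul] at hwk; exact hwk.symm)⟩
  have hwU : w ∈ U := ⟨hgS, mem_centralizer_singleton_iff.2 rfl⟩
  have hUT : ∀ a ∈ U, a ∉ T → ∀ b ∈ U, b ∉ T → a * b ∈ T := by
    intro a ha haT b hb hbT
    have hmove : ∀ a ∈ U, a ∉ T → a * c * a⁻¹ = c' := fun a ha haT => (hcS a ha.1).resolve_left fun h => by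
      refine haT (C.fix_mem hc S.isPGroup' hTS ha.1 ?_)
      rwa [mul_inv_eq_iff_eq_mul] at h
    refine C.fix_mem hc S.isPGroup' hTS (mul_mem ha.1 hb.1) ?_
    have h : a * b * c * (a * b)⁻¹ = c := by
      calc a * b * c * (a * b)⁻¹ = a * (b * c * b⁻¹) * a⁻¹ := by group
        _ = a * c * a⁻¹ * (a * z * a⁻¹) := by rw [hmove b hb hbT, C.c'_eq hc]; group
        _ = c * z * z := by rw [hmove a ha haT, hzS a ha.1, mul_inv_cancel_right, C.c'_eq hc]
        _ = c := by rw [mul_assoc, ZC.mul_self_eq_one C.zo, mul_one]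
    rwa [mul_inv_eq_iff_eq_mul] at h
  have hU8 : Nat.card U ≤ 8 := by
    have h1 : Nat.card U ≤ 2 * Nat.card ↥(U ⊓ T) := ZC.card_le_two_mul inf_le_left
      fun a ha haT b hb hbT => ⟨mul_mem ha hb, hUT a ha (fun h => haT ⟨ha, h⟩) b hb (fun h => hbT ⟨hb, h⟩)⟩
    have h2 : Nat.card ↥(U ⊓ T) ≤ 2 * Nat.card ↥(U ⊓ T ⊓ centralizer (F : Set G)) :=
      ZC.card_le_two_mul inf_le_left fun a ha haF b hb hbF => ⟨mul_mem ha hb,
        ZC.mul_mem_centralizer_four C.left.four C.zF (ZC.ne_one_of_two C.zo)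
          (C.left.nor (C.left.syl.1 ha.2)) (C.zc a ha.2) (fun h => haF ⟨ha, h⟩)
          (C.left.nor (C.left.syl.1 hb.2)) (C.zc b hb.2) (fun h => hbF ⟨hb, h⟩)⟩
    have h3 : U ⊓ T ⊓ centralizer (F : Set G) ≤ zpowers z := by
      rintro v ⟨⟨⟨hvS, hvw⟩, hvT⟩, hvF⟩
      have hvw' : v * w = w * v := mem_centralizer_singleton_iff.1 hvw
      have hvf : f * v = v * f := mem_centralizer_iff.1 hvF f C.fF
      have hvu : u₀ * v = v * u₀ := by
        rw [hu₀]
        calc w * f * w⁻¹ * v = w * f * (w⁻¹ * (v * w)) * w⁻¹ := by group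
          _ = w * (f * v) * w⁻¹ := by rw [hvw']; group
          _ = w * v * f * w⁻¹ := by rw [hvf]; group
          _ = v * w * f * w⁻¹ := by rw [hvw']
          _ = v * (w * f * w⁻¹) := by group
      have hvf' : f' * v = v * f' := by
        rcases C.symm.cases hu₀F with h4 | h4 | h4 | h4
        · exact absurd h4 hu₀1
        · exact absurd h4 hu₀z
        · rwa [← h4]
        · have hvz := C.zc v hvT
          rw [h4] at hvu
          refine mul_right_cancel (b := z) ?_
          rw [mul_assoc, hvz, ← mul_assoc, hvu, mul_assoc]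
      have hdec : v ∈ F ∨ v * c ∈ F := C.left.cent v (C.left.syl.1 hvT) hvF
      rcases hdec with h4 | h4
      · rcases C.central_dihedral (mem_sup_left h4) (by rw [← pow_two]; exact C.left.four.1.2 v h4) hvf hvf' with h5 | h5 <;>
          rw [h5]
        exacts [one_mem _, mem_zpowers z]
      · have hfc : ∀ t ∈ T, t * c = c * t := fun t ht => C.left.ccomm t (C.left.syl.1 ht)
        have h6 : v = v * c * c := by rw [mul_assoc, C.left.csq, mul_one]
        rcases C.central_dihedral (mem_sup_left h4) (by rw [← pow_two]; exact C.left.four.1.2 _ h4)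
          ((show Commute f v from hvf).mul_right (show Commute f c from hfc f (C.left.le C.fF))).eq
          ((show Commute f' v from hvf').mul_right (show Commute f' c from hfc f' (C.right.le C.f'F))).eq
          with h5 | h5
        · exfalso
          rw [h5, one_mul] at h6
          rw [h6] at hvw'
          rw [C.c'_eq hc] at hwc
          have h7 : w * c * w⁻¹ = c := by rw [← hvw', mul_inv_cancel_right]
          rw [h7] at hwc
          exact ZC.ne_one_of_two C.zo (mul_eq_left.1 hwc.symm)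
        · exfalso
          rw [h5] at h6
          have h7 : w * v * w⁻¹ = v := by rw [← hvw', mul_inv_cancel_right]
          rw [h6, ← conj_mul, hwz, mul_inv_cancel_right, hwc, C.c'_eq hc] at h7
          have h8 := mul_left_cancel h7
          exact ZC.ne_one_of_two C.zo (mul_eq_left.1 h8)
    have h4 := card_le_of_le h3
    rw [Nat.card_zpowers, C.zo] at h4
    omega
  -- `U` is not a Sylow 2-subgroup of `C(w)`
  have hT16 : Nat.card T = 16 := by
    rw [C.left.cardT, ZC.two_of_sq (by rw [pow_two]; exact C.left.csq) hc]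
  obtain ⟨Tw, hTw⟩ := ((S.isPGroup'.to_le inf_le_left : IsPGroup 2 U).comap_subtype
    (K := centralizer ({w} : Set G))).exists_le_sylow
  set Tw' := (Tw : Subgroup _).map (centralizer ({w} : Set G)).subtype with hTw'
  have hUTw : U ≤ Tw' := fun a ha => ⟨⟨a, ha.2⟩, hTw ha, rfl⟩
  have hgT : T.map (MulAut.conj g).toMonoidHom ≤ centralizer ({w} : Set G) := by
    rintro _ ⟨t, ht, rfl⟩
    refine mem_centralizer_singleton_iff.2 ?_
    show g * t * g⁻¹ * (g * c * g⁻¹) = g * c * g⁻¹ * (g * t * g⁻¹)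
    calc g * t * g⁻¹ * (g * c * g⁻¹) = g * (t * c) * g⁻¹ := by group
      _ = g * (c * t) * g⁻¹ := by rw [C.left.ccomm t (C.left.syl.1 ht)]
      _ = _ := by group
  have h16 : 16 ≤ Nat.card Tw' := by
    obtain ⟨T₂, hT₂⟩ := ((C.left.syl.2.1.map (MulAut.conj g).toMonoidHom).comap_subtype
      (K := centralizer ({w} : Set G))).exists_le_sylow
    rw [hTw', card_map_of_injective (subtype_injective _), Tw.card_eq_multiplicity,
      ← T₂.card_eq_multiplicity]
    refine le_trans (le_of_eq ?_) (card_le_of_le hT₂)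
    show 16 = Nat.card ↥((T.map (MulAut.conj g).toMonoidHom).subgroupOf (centralizer ({w} : Set G)))
    rw [Nat.card_congr (subgroupOfEquivOfLe hgT).toEquiv, H39.card_map_conj, hT16]
  obtain ⟨u, huT, huU, hun⟩ := H39.exists_mem_normalizer_not_mem (Tw.isPGroup'.map _)
    (lt_of_le_of_ne hUTw fun e => by rw [hTw', ← e] at h16; omega)
  have hsqU : ∀ v ∈ U, v * v = 1 ∨ v * v = z := by
    intro v hv
    by_cases hvT : v ∈ T
    · exact C.square_eq hvT
    · have hvw' : v * w = w * v := mem_centralizer_singleton_iff.1 hv.2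
      have h := C.square_eq (hUT v hv hvT w hwU hwT)
      rwa [show v * w * (v * w) = v * (w * v) * w by group, ← hvw',
        show v * (v * w) * w = v * v * (w * w) by group, hw2, mul_one] at h
  have huz : u * z * u⁻¹ = z := by
    have h := hsqU _ ((mem_normalizer_iff.1 hun k).1 hkU)
    rw [show u * k * u⁻¹ * (u * k * u⁻¹) = u * (k * k) * u⁻¹ by group, hkk] at h
    exact h.resolve_left fun h1 => ZC.ne_one_of_two C.zo (conj_eq_one_iff.1 h1)
  rw [mul_inv_eq_iff_eq_mul] at huz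
  refine huU ⟨ZC.mem_sylow_of_normalizer S (ZC.isPGroup_zpowers_of_mem (Tw.isPGroup'.map _) huT)
    (hzc (mem_centralizer_iff.2 fun v hv => ?_)), map_subtype_le _ huT⟩
  have hv' := ZC.mem_omega_center.1 hv
  rcases hcen hST v hv'.1.1 (by rw [← pow_two]; exact hv'.2)
    (fun s hs => ZC.commute_of_inf_centralizer hv'.1 hs) with rfl | rfl
  · rw [one_mul, mul_one]
  · exact huz.symm

/-- In the case `2 × S₄` the central involution `c` is outside `O²(G)`. -/
theorem notMem_residual (C : Config T P P' F F' c c' z f f') (hc : c ≠ 1)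
    (hzc : ∀ S : Sylow 2 G, centralizer (Cfsg.omegaCenterOf (S : Subgroup G) : Set G) ≤
      normalizer ((S : Subgroup G) : Set G)) :
    c ∉ Cfsg.pResidual 2 G := by
  classical
  intro hcH
  set H := Cfsg.pResidual 2 G with hH
  haveI : H.Normal := Cores.pResidual_normal
  set D := F ⊔ F' with hD
  obtain ⟨S, hTS⟩ := C.left.syl.2.1.exists_le_sylow
  obtain ⟨hzS, hcS, -⟩ := C.overgroup hc S.isPGroup' hTS
  have hc'S : ∀ s ∈ (S : Subgroup G), s * c * s⁻¹ = c' → s * c' * s⁻¹ = c := fun s hs h => by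
    rw [C.c'_eq hc, ← conj_mul, h, hzS s hs, mul_inv_cancel_right, C.c'_eq hc, mul_assoc,
      ZC.mul_self_eq_one C.zo, mul_one]
  have hfix : ∀ s ∈ (S : Subgroup G), s * c * s⁻¹ = c → s ∈ T := fun s hs h => by
    refine C.fix_mem hc S.isPGroup' hTS hs ?_
    rwa [mul_inv_eq_iff_eq_mul] at h
  have hTn : (S : Subgroup G) ≤ normalizer (T : Set G) := fun s hs =>
    H39.mem_normalizer_of_conj_mem fun t ht => by
      refine hfix _ (mul_mem (mul_mem hs (hTS ht)) (inv_mem hs)) ?_
      rcases hcS s⁻¹ (inv_mem hs) with h | h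
      · calc s * t * s⁻¹ * c * (s * t * s⁻¹)⁻¹ = s * (t * (s⁻¹ * c * s⁻¹⁻¹) * t⁻¹) * s⁻¹ := by group
          _ = s * (s⁻¹ * c * s⁻¹⁻¹) * s⁻¹ := by
            rw [h, C.left.ccomm t (C.left.syl.1 ht), mul_inv_cancel_right]
          _ = c := by group
      · calc s * t * s⁻¹ * c * (s * t * s⁻¹)⁻¹ = s * (t * (s⁻¹ * c * s⁻¹⁻¹) * t⁻¹) * s⁻¹ := by group
          _ = s * (s⁻¹ * c * s⁻¹⁻¹) * s⁻¹ := by
            rw [h, C.right.ccomm t (C.right.syl.1 ht), mul_inv_cancel_right]
          _ = c := by group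
  have hDn : (S : Subgroup G) ≤ normalizer (D : Set G) := fun s hs =>
    H39.mem_normalizer_of_conj_mem fun d hd => by
      obtain ⟨a, ha, b, hb, rfl⟩ := C.mem_decomp hd
      rw [← conj_mul]
      rcases hcS s hs with h | h
      · have hsT := C.left.syl.1 (hfix s hs h)
        exact mul_mem (mem_sup_left ((mem_normalizer_iff.1 (C.left.nor hsT) a).1 ha))
          (mem_sup_right ((mem_normalizer_iff.1
            (C.right.nor (C.right.syl.1 (hfix s hs h))) b).1 hb))
      · exact mul_mem (mem_sup_right (C.map_four hc (hTn hs) (hzS s hs) h ha))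
          (mem_sup_left (C.symm.map_four (C.c'_ne_one hc) (hTn hs) (hzS s hs) (hc'S s hs h) hb))
  have hS32 : Nat.card (S : Subgroup G) ≤ 32 := by
    have h := ZC.card_le_two_mul hTS fun a ha haT b hb hbT => hfix _ (mul_mem ha hb) (by
      calc a * b * c * (a * b)⁻¹ = a * (b * c * b⁻¹) * a⁻¹ := by group
        _ = a * c' * a⁻¹ := by rw [(hcS b hb).resolve_left fun h => hbT (hfix b hb h)]
        _ = c := hc'S a ha ((hcS a ha).resolve_left fun h => haT (hfix a ha h)))
    rw [C.left.cardT, ZC.two_of_sq (by rw [pow_two]; exact C.left.csq) hc] at h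
    omega
  obtain ⟨R, hR⟩ := H41.exists_sylow_map_eq_inf S H
  have hmem : ∀ x : ↥H, x ∈ (R : Subgroup ↥H) ↔ (x : G) ∈ (S : Subgroup G) := fun x =>
    ⟨fun h => (hR.le ⟨x, h, rfl⟩).1, fun h => by
      obtain ⟨y, hy, hyx⟩ := hR.ge (⟨h, x.2⟩ : (x : G) ∈ (S : Subgroup G) ⊓ H)
      rwa [← subtype_injective H hyx]⟩
  set D₀ : Subgroup ↥(R : Subgroup ↥H) := (D.subgroupOf H).subgroupOf (R : Subgroup ↥H) with hD₀
  have hD₀mem : ∀ x : ↥(R : Subgroup ↥H), x ∈ D₀ ↔ ((x : ↥H) : G) ∈ D := fun x => Iff.rfl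
  haveI hD₀n : D₀.Normal := ⟨fun d hd r => (hD₀mem _).2 (by
    have h := (mem_normalizer_iff.1 (hDn ((hmem _).1 r.2)) _).1 ((hD₀mem d).1 hd)
    simpa using h)⟩
  have hDS : D ≤ (S : Subgroup G) ⊓ H := le_inf (C.dihedral_le.1.trans hTS) C.dihedral_le.2.2.2
  have hcard : Nat.card (↥(R : Subgroup ↥H) ⧸ D₀) ≤ 4 := by
    have h1 := D₀.card_mul_index
    rw [Subgroup.index_eq_card] at h1
    have h2 : Nat.card D₀ = 8 := by
      rw [← C.card_dihedral, hD₀]
      have hle : D.subgroupOf H ≤ (R : Subgroup ↥H) := fun x hx => (hmem x).2 (hDS hx).1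
      rw [Nat.card_congr (subgroupOfEquivOfLe hle).toEquiv,
        Nat.card_congr (subgroupOfEquivOfLe (hDS.trans inf_le_right)).toEquiv]
    have h3 : Nat.card (R : Subgroup ↥H) ≤ 32 := by
      rw [← card_map_of_injective H.subtype_injective, hR]
      exact (card_le_of_le inf_le_left).trans hS32
    rw [h2] at h1
    omega
  have hcomm : ∀ a b : ↥(R : Subgroup ↥H) ⧸ D₀, a * b = b * a := by
    have hp : IsPGroup 2 (↥(R : Subgroup ↥H) ⧸ D₀) := R.isPGroup'.to_quotient D₀
    obtain ⟨n, hn⟩ := hp.exists_card_eq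
    rcases n with _ | _ | _ | n
    · intro a b
      haveI := (Nat.card_eq_one_iff_unique.1 (hn.trans (pow_zero 2))).1
      exact Subsingleton.elim _ _
    · haveI : IsCyclic (↥(R : Subgroup ↥H) ⧸ D₀) := isCyclic_of_prime_card (hn.trans (pow_one 2))
      exact fun a b => (IsCyclic.commGroup (α := ↥(R : Subgroup ↥H) ⧸ D₀)).mul_comm a b
    · exact fun a b => (IsPGroup.isMulCommutative_of_card_eq_prime_sq hn).1.comm a b
    · exfalso
      rw [hn] at hcard
      have : 8 ≤ 2 ^ (n + 1 + 1 + 1) := by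
        calc 8 = 2 ^ 3 := by norm_num
          _ ≤ _ := Nat.pow_le_pow_right two_pos (by omega)
      omega
  letI : CommGroup (↥(R : Subgroup ↥H) ⧸ D₀) :=
    { (inferInstance : Group (↥(R : Subgroup ↥H) ⧸ D₀)) with mul_comm := hcomm }
  let φ : ↥(R : Subgroup ↥H) →* ↥(R : Subgroup ↥H) ⧸ D₀ := QuotientGroup.mk' D₀
  set c₀ : ↥H := ⟨c, hcH⟩ with hc₀
  have hcR : c₀ ∈ (R : Subgroup ↥H) := (hmem c₀).2 (hTS C.left.cmem)
  have hval : ∀ x : ↥(R : Subgroup ↥H), ∀ (h : ↥H) (k : ℕ), (x : ↥H) = h⁻¹ * c₀ ^ k * h →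
      φ x = φ ⟨c₀, hcR⟩ ^ k := by
    intro x h k hx
    rw [← map_pow]
    show QuotientGroup.mk' D₀ x = QuotientGroup.mk' D₀ _
    rw [QuotientGroup.mk'_eq_mk']
    refine ⟨x⁻¹ * ⟨c₀, hcR⟩ ^ k, (hD₀mem _).2 ?_, by rw [mul_inv_cancel_left]⟩
    have hx' : ((x : ↥H) : G) = (h : G)⁻¹ * c ^ k * h := by rw [hx]; simp [hc₀]
    show (((x : ↥H) : G))⁻¹ * c ^ k ∈ D
    rcases Nat.even_or_odd k with ⟨j, rfl⟩ | ⟨j, rfl⟩
    · have hck : c ^ (j + j) = 1 := by rw [← two_mul, pow_mul, pow_two, C.left.csq, one_pow]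
      rw [hx', hck]
      simp
    · have hck : c ^ (2 * j + 1) = c := by
        rw [pow_succ, pow_mul, pow_two, C.left.csq, one_pow, one_mul]
      rw [hck] at hx' ⊢
      have h1 := C.conj_mem_coset hc S (hzc S) hTS (g := (h : G)⁻¹) (by
        rw [inv_inv, ← hx']; exact (hmem _).1 x.2)
      rw [inv_inv] at h1
      have h2 := inv_mem h1
      rw [mul_inv_rev, show c⁻¹ = c from inv_eq_of_mul_eq_one_right C.left.csq] at h2
      rwa [hx']
  have htriv : MonoidHom.transfer φ c₀ = 1 := by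
    have hp : IsPGroup 2 (↥(R : Subgroup ↥H) ⧸ D₀) := R.isPGroup'.to_quotient D₀
    have h1 := Fusion.pResidual_le_ker hp (MonoidHom.transfer φ)
    have h2 : Cfsg.pResidual 2 ↥H = ⊤ := Cores.pResidual_pResidual
    rw [h2] at h1
    exact h1 (mem_top c₀)
  haveI := Fintype.ofFinite (Quotient (MulAction.orbitRel (zpowers c₀) (↥H ⧸ (R : Subgroup ↥H))))
  rw [MonoidHom.transfer_eq_prod_quotient_orbitRel_zpowers_quot,
    Finset.prod_congr rfl fun q _ => hval _ q.out.out _ rfl, Finset.prod_pow_eq_pow_sum,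
    ← index_eq_sum_minimalPeriod] at htriv
  obtain ⟨j, hj⟩ : Odd (R : Subgroup ↥H).index := by
    rw [← Nat.not_even_iff_odd, even_iff_two_dvd]; exact R.not_dvd_index
  have hφ2 : φ ⟨c₀, hcR⟩ ^ 2 = 1 := by
    rw [← map_pow, show (⟨c₀, hcR⟩ : ↥(R : Subgroup ↥H)) ^ 2 = 1 from
      Subtype.ext (Subtype.ext (by simpa [hc₀, pow_two] using C.left.csq)), map_one]
  rw [hj, pow_succ, pow_mul, hφ2, one_pow, one_mul] at htriv
  exact C.c_notMem hc ((hD₀mem _).1 ((QuotientGroup.eq_one_iff _).1 htriv))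

end Cfsg.Agent.H57.ZN.Config
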