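import Cfsg.Agent.H57.ZC.Low
import Cfsg.Agent.H29.RankTwoFusion.Wreath

/-!
No elementary abelian subgroup of order 8 and a single central involution: `S ∩ O²(G)` is dihedral
or semidihedral, or `O²(G)` has a strongly embedded subgroup.
-/

set_option autoImplicit false
set_option linter.unusedSectionVars false
set_option linter.style.haveILetI false

namespace Cfsg.Agent.H57.ZN

open Subgroup
open Cfsg.Agent.H70.Balanced (Four)
open Cfsg.Agent.H57.ZC (zOne)

universe u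

variable {G : Type u} [Group G] [Finite G]

local instance : Fact (Nat.Prime 2) := ⟨Nat.prime_two⟩

/-- `R` is dihedral of order at least 4 or semidihedral. -/
def DihedralLike (R : Subgroup G) : Prop :=
  (∃ n : ℕ, 2 ≤ n ∧ Nonempty (↥R ≃* DihedralGroup n)) ∨ Cfsg.IsQuasiDihedral ↥R

/-- A 2-group with a self-centralising four-group. -/
theorem dihedralLike_of_four {R F : Subgroup G} (hR : IsPGroup 2 R) (hF : Four F) (hFR : F ≤ R)
    (hC : ∀ x ∈ R, x ∈ centralizer (F : Set G) → x ∈ F) : DihedralLike R := by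
  have hcard : Nat.card ↥(F.subgroupOf R) = 4 := by
    rw [Nat.card_congr (subgroupOfEquivOfLe hFR).toEquiv, hF.2]
  have hsq : ∀ a ∈ F.subgroupOf R, a * a = 1 := fun a ha =>
    Subtype.ext (by rw [coe_mul, ← pow_two]; exact hF.1.2 _ ha)
  by_cases htop : F.subgroupOf R = ⊤
  · have hR4 : Nat.card ↥R = 2 * 2 := by rw [← card_top, ← htop, hcard]
    obtain ⟨a, haF, ha1, -⟩ := ZC.exists_four_gen hF (1 : G)
    obtain ⟨b, hbF, hb1, hba⟩ := ZC.exists_four_gen hF a
    have hao := ZC.two_of_sq (hF.1.2 a haF) ha1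
    refine Or.inl ⟨2, le_rfl, PGroups.nonempty_mulEquiv_dihedral (c := (⟨a, hFR haF⟩ : ↥R))
      (y := ⟨b, hFR hbF⟩) (by rw [Subgroup.orderOf_mk, hao]) (fun h => ?_)
      (Subtype.ext (hF.1.2 b hbF)) ?_ hR4⟩
    · rcases H14.Asch.eq_one_or_eq_of_sq (z := (⟨a, hFR haF⟩ : ↥R))
        (by rw [Subgroup.orderOf_mk, hao]) (mem_zpowers _) h (hsq _ hbF) with h1 | h1
      exacts [hb1 (congrArg Subtype.val h1), hba (congrArg Subtype.val h1)]
    · refine Subtype.ext ?_
      show b * a * b⁻¹ = a⁻¹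
      rw [H36.NilPPrime.elem_comm hF.1 hbF haF, mul_inv_cancel_right,
        inv_eq_of_mul_eq_one_right (ZC.mul_self_eq_one hao)]
  refine H29.RankTwoFusion.dihedral_or_semidihedral hR _ hcard hsq (le_antisymm ?_ ?_) htop
  · intro x hx
    exact hC x x.2 (mem_centralizer_iff.2 fun a ha =>
      congrArg Subtype.val (mem_centralizer_iff.1 hx ⟨a, hFR ha⟩ ha))
  · exact fun x hx => mem_centralizer_iff.2 fun a ha =>
      Subtype.ext (H36.NilPPrime.elem_comm hF.1 ha hx)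

/-- A square root of the only involution inside a cyclic 2-group of order at least 4. -/
theorem exists_root {K : Subgroup G} (hK : IsPGroup 2 K) {z : G}
    (hinv : ∀ x ∈ K, orderOf x = 2 → x = z) {x : G} (hx : x ∈ K) (h1 : x ≠ 1) (hxz : x ≠ z) :
    ∃ w ∈ K, w * w = z := by
  obtain ⟨n, hn⟩ := IsPGroup.iff_orderOf.1 hK ⟨x, hx⟩
  rw [Subgroup.orderOf_mk] at hn
  rcases n with _ | _ | n
  · exact absurd (orderOf_eq_one_iff.1 (by simpa using hn)) h1
  · exact absurd (hinv x hx (by simpa using hn)) hxz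
  · refine ⟨x ^ 2 ^ n, pow_mem hx _, ?_⟩
    rw [← pow_add, ← two_mul, ← pow_succ']
    refine hinv _ (pow_mem hx _) ?_
    rw [orderOf_pow_of_dvd (by positivity) (hn ▸ pow_dvd_pow 2 (by omega)), hn,
      Nat.pow_div (by omega) two_pos]
    simp

variable {S : Sylow 2 G}

/-- The analysis around an involution outside a subgroup `K` of index 2 with a single involution
commuting with it. -/
theorem dihedralLike_of_involution (K : Subgroup G) {z y : G}
    (hzS : z ∈ (S : Subgroup G)) (hzH : z ∈ Cfsg.pResidual 2 G) (hzo : orderOf z = 2)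
    (hzK : z ∈ K) (hzy : z * y = y * z) (hyS : y ∈ (S : Subgroup G))
    (hyH : y ∈ Cfsg.pResidual 2 G) (hyo : orderOf y = 2) (hyK : y ∉ K)
    (hidx : ∀ a ∈ (S : Subgroup G), a ∉ K → ∀ b ∈ (S : Subgroup G), b ∉ K → a * b ∈ K)
    (hsmall : ∀ x ∈ (S : Subgroup G), x ∈ K → x * y = y * x → x = 1 ∨ x = z) :
    DihedralLike ((S : Subgroup G) ⊓ Cfsg.pResidual 2 G) := by
  have hne : y ≠ z := fun h => hyK (h ▸ hzK)
  have hF := ZC.four_sup hzo hyo hzy hne
  set F := zpowers z ⊔ zpowers y with hFdef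
  have hzF : z ∈ F := mem_sup_left (mem_zpowers z)
  have hyF : y ∈ F := mem_sup_right (mem_zpowers y)
  refine dihedralLike_of_four (S.isPGroup'.to_le inf_le_left) hF
    (sup_le (zpowers_le.2 ⟨hzS, hzH⟩) (zpowers_le.2 ⟨hyS, hyH⟩)) fun x hx hxc => ?_
  have hxy : x * y = y * x := (mem_centralizer_iff.1 hxc y hyF).symm
  by_cases hxK : x ∈ K
  · rcases hsmall x hx.1 hxK hxy with rfl | rfl
    exacts [one_mem _, hzF]
  have h2 : y * x * y = y * (y * x) := by rw [mul_assoc, hxy]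
  have h3 : x = y⁻¹ * (y * x) := (inv_mul_cancel_left y x).symm
  rw [h3]
  refine mul_mem (inv_mem hyF) ?_
  rcases hsmall _ (mul_mem hyS hx.1) (hidx y hyS hyK x hx.1 hxK) h2 with h | h <;> rw [h]
  exacts [one_mem _, hzF]

theorem exists_normal_four_small (hno : ∀ D, ¬ ZC.Eight (S : Subgroup G) D) {z : G}
    (hz : z ∈ zOne S) (hzo : orderOf z = 2) :
    (∃ A : Subgroup G, z ∈ A ∧ A ≤ (S : Subgroup G) ∧ (∀ x ∈ A, orderOf x = 2 → x = z) ∧
        ∀ a ∈ (S : Subgroup G), a ∉ A → ∀ b ∈ (S : Subgroup G), b ∉ A → a * b ∈ A) ∨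
      ∃ E : Subgroup G, ∃ e, Four E ∧ E ≤ (S : Subgroup G) ∧
        (S : Subgroup G) ≤ normalizer (E : Set G) ∧ z ∈ E ∧ e ∈ E ∧ e ≠ 1 ∧ e ≠ z ∧
        ∀ v ∈ (S : Subgroup G), v ∈ centralizer (E : Set G) → v ^ 2 = 1 → v ∈ E := by
  have hzS := ZC.zOne_le S hz
  rcases H14.Asch.exists_normal_four_or_cyclic S.isPGroup' (z := (⟨z, hzS⟩ : ↥(S : Subgroup G)))
    (by rw [← orderOf_coe]; exact hzo) (fun s => Subtype.ext (ZC.zOne_comm hz s.2).symm) with
    ⟨e', heo, hez', hconj⟩ | ⟨a, hza, ha⟩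
  swap
  · refine Or.inl ⟨(zpowers a).map (S : Subgroup G).subtype, ⟨_, hza, rfl⟩, map_subtype_le _, ?_,
      fun x hx hxA y hy hyA => ⟨_, (ha ⟨x, hx⟩ (fun h => hxA ⟨_, h, rfl⟩)).2 ⟨y, hy⟩
        (fun h => hyA ⟨_, h, rfl⟩), rfl⟩⟩
    rintro _ ⟨x, hx, rfl⟩ hxo
    rcases H14.Asch.eq_one_or_eq_of_sq (z := (⟨z, hzS⟩ : ↥(S : Subgroup G)))
      (by rw [← orderOf_coe]; exact hzo) hza hx (Subtype.ext (ZC.mul_self_eq_one hxo)) with rfl | rfl
    · exact absurd rfl (ZC.ne_one_of_two hxo)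
    · rfl
  set e : G := (e' : G) with he
  have heS : e ∈ (S : Subgroup G) := e'.2
  have heo2 : orderOf e = 2 := by rw [he, orderOf_coe]; exact heo
  have hez : e ≠ z := fun h => hez' (Subtype.ext h)
  set E := zpowers z ⊔ zpowers e with hE
  have hE4 : Four E := ZC.four_sup hzo heo2 (ZC.zOne_comm hz heS).symm hez
  have hzE : z ∈ E := mem_sup_left (mem_zpowers z)
  have heE : e ∈ E := mem_sup_right (mem_zpowers e)
  have hES : E ≤ (S : Subgroup G) := sup_le (zpowers_le.2 hzS) (zpowers_le.2 heS)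
  refine Or.inr ⟨E, e, hE4, hES, fun s hs => H39.mem_normalizer_of_conj_mem fun x hx => ?_, hzE, heE,
    ZC.ne_one_of_two heo2, hez, fun v hvS hv0 hv => ?_⟩
  · have h1 : s * e * s⁻¹ ∈ E := by
      rcases hconj ⟨s, hs⟩ with h | h <;>
        rw [show s * e * s⁻¹ = _ from congrArg Subtype.val h]
      exacts [heE, mul_mem heE hzE]
    have h2 : s * z * s⁻¹ ∈ E := by rwa [ZC.zOne_comm hz hs, mul_inv_cancel_right]
    rcases ZC.four_cases hE4 hzE heE (ZC.ne_one_of_two hzo) (ZC.ne_one_of_two heo2) hez hx with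
      rfl | rfl | rfl | rfl
    · simp
    · exact h2
    · exact h1
    · rw [← conj_mul]; exact mul_mem h1 h2
  · by_contra h
    exact hno _ (ZC.eight_sup hES hE4.1 hE4.2.ge hvS hv
      (fun a ha => mem_centralizer_iff.1 hv0 a ha) h)

/-- No elementary group of order 8, `Ω₁(Z(S)) = ⟨z⟩`. -/
theorem lowTwo (c : ZC.Hyp S) (hno : ∀ D, ¬ ZC.Eight (S : Subgroup G) D) {z : G}
    (hz : z ∈ zOne S) (hzH : z ∈ Cfsg.pResidual 2 G) (hzo : orderOf z = 2)
    (hZ : ∀ w ∈ zOne S, w = 1 ∨ w = z) :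
    (∃ M : Subgroup ↥(Cfsg.pResidual 2 G), Cfsg.IsStronglyEmbedded M) ∨
      DihedralLike ((S : Subgroup G) ⊓ Cfsg.pResidual 2 G) := by
  set H := Cfsg.pResidual 2 G with hH
  haveI : H.Normal := Cores.pResidual_normal
  have hzS := ZC.zOne_le S hz
  have hz1 := ZC.ne_one_of_two hzo
  rcases exists_normal_four_small hno hz hzo with
    ⟨A, hzA, -, huniq, hidx⟩ | ⟨E, e, hE, hES, hSE, hzE, heE, he1, hez, hinv⟩
  · -- cyclic case
    obtain ⟨g, hg, hyS, hyz⟩ := c.exists_conj_ne hzS hzH hzo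
    set y := g * z * g⁻¹ with hy
    have hyo : orderOf y = 2 := by rw [hy, ZC.orderOf_conj, hzo]
    have hyA : y ∉ A := fun h => hyz (huniq y h hyo)
    refine Or.inr (dihedralLike_of_involution A hzS hzH hzo hzA (ZC.zOne_comm hz hyS).symm hyS
      (Normal.conj_mem inferInstance z hzH g) hyo hyA hidx fun x hxS hxA hxy => ?_)
    by_contra hcon
    simp only [not_or] at hcon
    obtain ⟨w, hw, hww⟩ := exists_root (K := A ⊓ (S : Subgroup G) ⊓ centralizer ({y} : Set G))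
      (S.isPGroup'.to_le (inf_le_left.trans inf_le_right)) (fun u hu => huniq u hu.1.1)
      ⟨⟨hxA, hxS⟩, mem_centralizer_singleton_iff.2 hxy⟩ hcon.1 hcon.2
    have hv := c.conj_mem_of_commute hZ hw.1.2 (mem_centralizer_singleton_iff.1 hw.2)
    have hvA : g⁻¹ * w * g * (g⁻¹ * w * g) ∈ A := by
      by_cases h : g⁻¹ * w * g ∈ A
      · exact mul_mem h h
      · exact hidx _ hv h _ hv h
    rw [show g⁻¹ * w * g * (g⁻¹ * w * g) = g⁻¹ * (w * w) * g⁻¹⁻¹ by group, hww] at hvA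
    have := huniq _ hvA (by rw [ZC.orderOf_conj, hzo])
    refine hyz ?_
    calc y = g * (g⁻¹ * z * g⁻¹⁻¹) * g⁻¹ := by rw [this]
      _ = z := by group
  set S₀ := centralizer (E : Set G) with hS₀
  have hidx : ∀ a ∈ (S : Subgroup G), a ∉ S₀ → ∀ b ∈ (S : Subgroup G), b ∉ S₀ → a * b ∈ S₀ :=
    fun a ha haF b hb hbF => ZC.mul_mem_centralizer_four hE hzE hz1 (hSE ha) (ZC.zOne_comm hz ha) haF
      (hSE hb) (ZC.zOne_comm hz hb) hbF
  have hzS₀ : z ∈ S₀ := mem_centralizer_iff.2 fun a ha => H36.NilPPrime.elem_comm hE.1 ha hzE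
  by_cases hout : ∃ y ∈ (S : Subgroup G), y ∈ H ∧ orderOf y = 2 ∧ y ∉ S₀
  · obtain ⟨y, hyS, hyH, hyo, hy0⟩ := hout
    obtain ⟨g, hg⟩ := isConj_iff.1 (c.low_isConj hno hz hzH hzo hZ hyS hyH hyo)
    refine Or.inr (dihedralLike_of_involution S₀ hzS hzH hzo hzS₀ (ZC.zOne_comm hz hyS).symm hyS
      hyH hyo hy0 hidx fun x hxS hx0 hxy => ?_)
    by_contra hcon
    simp only [not_or] at hcon
    obtain ⟨w, hw, hww⟩ := exists_root (K := S₀ ⊓ (S : Subgroup G) ⊓ centralizer ({y} : Set G))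
      (S.isPGroup'.to_le (inf_le_left.trans inf_le_right)) (fun u hu huo => by
        have huy := mem_centralizer_singleton_iff.1 hu.2
        have huE := hinv u hu.1.2 hu.1.1 (ZC.sq_of_two huo)
        by_contra huz
        exact hy0 (ZC.mem_centralizer_four hE hzE huE hz1 (ZC.ne_one_of_two huo) huz
          (ZC.zOne_comm hz hyS) huy.symm))
      ⟨⟨hx0, hxS⟩, mem_centralizer_singleton_iff.2 hxy⟩ hcon.1 hcon.2
    have hw0 : w ∈ S₀ := hw.1.1
    have hwy := mem_centralizer_singleton_iff.1 hw.2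
    rw [← hg] at hwy
    have hv := c.conj_mem_of_commute hZ hw.1.2 hwy
    have hvv : g⁻¹ * z * g ∈ (S : Subgroup G) ∧ g⁻¹ * z * g ∈ S₀ := by
      rw [← hww, show g⁻¹ * (w * w) * g = g⁻¹ * w * g * (g⁻¹ * w * g) by group]
      refine ⟨mul_mem hv hv, ?_⟩
      by_cases h : g⁻¹ * w * g ∈ S₀
      · exact mul_mem h h
      · exact hidx _ hv h _ hv h
    have hvE : g⁻¹ * z * g ∈ E := hinv _ hvv.1 hvv.2 (by
      rw [show g⁻¹ * z * g = g⁻¹ * z * g⁻¹⁻¹ by group]
      exact ZC.conj_sq (ZC.sq_of_two hzo))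
    have hwv : w * (g⁻¹ * z * g) = g⁻¹ * z * g * w := (mem_centralizer_iff.1 hw0 _ hvE).symm
    have hu : g * w * g⁻¹ ∈ (S : Subgroup G) := by
      refine c.mem_of_commute_center hZ ?_ ?_
      · obtain ⟨n, hn⟩ := IsPGroup.iff_orderOf.1 S.isPGroup' ⟨w, hw.1.2⟩
        rw [Subgroup.orderOf_mk] at hn
        refine ZC.isPGroup_zpowers_of_pow (n := n) ?_
        rw [conj_pow, ← hn, pow_orderOf_eq_one, mul_one, mul_inv_cancel]
      · calc g * w * g⁻¹ * z = g * (w * (g⁻¹ * z * g)) * g⁻¹ := by group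
          _ = z * (g * w * g⁻¹) := by rw [hwv]; group
    refine hy0 ?_
    rw [← hg, ← hww, ← conj_mul]
    by_cases h : g * w * g⁻¹ ∈ S₀
    · exact mul_mem h h
    · exact hidx _ hu h _ hu h
  -- every involution of `S ∩ H` lies in `E`
  push Not at hout
  have hinE : ∀ a ∈ (S : Subgroup G), a ∈ H → a ^ 2 = 1 → a ∈ E := fun a haS haH ha => by
    by_cases h1 : a = 1
    · rw [h1]; exact one_mem _
    · exact hinv a haS (hout a haS haH (ZC.two_of_sq ha h1)) ha
  obtain ⟨g₀, -, hy₀S, hy₀z⟩ := c.exists_conj_ne hzS hzH hzo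
  have hy₀H : g₀ * z * g₀⁻¹ ∈ H := Normal.conj_mem inferInstance z hzH g₀
  have hEH : E ≤ H := fun a ha => by
    rcases ZC.four_cases hE hzE (hinE _ hy₀S hy₀H (ZC.conj_sq (ZC.sq_of_two hzo))) hz1
      (fun h => hz1 (conj_eq_one_iff.1 h)) hy₀z ha with rfl | rfl | rfl | rfl
    exacts [one_mem _, hzH, hy₀H, mul_mem hy₀H hzH]
  refine Or.inl (c.stronglyEmbedded (M := normalizer (E : Set G)) ?_ hSE ?_ ?_)
  · intro h
    haveI : E.Normal := normalizer_eq_top_iff.1 h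
    exact hz1 (mem_bot.1 ((c.normal_two_eq_bot E (H36.NilPPrime.elem_isPGroup hE.1)).le hzE))
  · intro x hxS hxH hxo
    obtain ⟨g, hg⟩ := isConj_iff.1 (c.low_isConj hno hz hzH hzo hZ hxS hxH hxo)
    have hxE := hinE x hxS hxH (ZC.sq_of_two hxo)
    have hzc : ∀ u : G, u * z = z * u → u ∈ normalizer (E : Set G) := fun u hu => by
      have hun : u ∈ normalizer ((S : Subgroup G) : Set G) :=
        c.zc (mem_centralizer_iff.2 fun w hw => by
          rcases hZ w hw with rfl | rfl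
          · rw [one_mul, mul_one]
          · exact hu.symm)
      exact H39.mem_normalizer_of_conj_mem fun a ha =>
        hinE _ ((mem_normalizer_iff.1 hun a).1 (hES ha)) (Normal.conj_mem inferInstance a (hEH ha) u)
          (ZC.conj_sq (hE.1.2 a ha))
    have hgM : g⁻¹ ∈ normalizer (E : Set G) := H39.mem_normalizer_of_conj_mem fun a ha => by
      refine hinE _ ?_ (Normal.conj_mem inferInstance a (hEH ha) g⁻¹) (ZC.conj_sq (hE.1.2 a ha))
      rw [inv_inv]
      exact c.conj_mem_of_commute hZ (hES ha) (by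
        rw [hg]; exact H36.NilPPrime.elem_comm hE.1 ha hxE)
    intro u hu
    have hu' := mem_centralizer_singleton_iff.1 hu
    rw [← hg] at hu'
    have h1 : g⁻¹ * u * g ∈ normalizer (E : Set G) := hzc _ (by
      calc g⁻¹ * u * g * z = g⁻¹ * (u * (g * z * g⁻¹)) * g := by group
        _ = z * (g⁻¹ * u * g) := by rw [hu']; group)
    simpa [mul_assoc] using mul_mem (mul_mem (inv_mem hgM) h1) hgM
  · intro g _ hg
    exact H39.mem_normalizer_of_conj_mem fun a ha => by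
      have h := (mem_normalizer_iff.1 hg a).1 ⟨hES ha, hEH ha⟩
      exact hinE _ h.1 h.2 (ZC.conj_sq (hE.1.2 a ha))

end Cfsg.Agent.H57.ZN
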