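import Cfsg.Agent.H57.ZC.High
import Cfsg.Agent.H57.ZN.Core
import Cfsg.Agent.H57.ZN.LowTwo

/-!
The structure theorem for ZN-groups with an elementary subgroup of order 8: pass to
`X = O²(G) Ω₁(Z(S))`, which is of characteristic 2 type.
-/

set_option autoImplicit false
set_option linter.unusedSectionVars false
set_option linter.style.haveILetI false

namespace Cfsg.Agent.H57.ZN

open Subgroup
open Cfsg.Agent.H70.Balanced (Four)
open Cfsg.Agent.H57.ZC (zOne)

universe u

variable {G : Type u} [Group G] [Finite G]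

local instance : Fact (Nat.Prime 2) := ⟨Nat.prime_two⟩

variable {S : Sylow 2 G}

/-- A strongly embedded subgroup of a normal `X ≥ O²(G)` gives one of `O²(G)`. -/
theorem stronglyEmbedded_residual (c : ZC.Hyp S) {X : Subgroup G}
    (hHX : Cfsg.pResidual 2 G ≤ X) {K : Subgroup ↥X} (hK : Cfsg.IsStronglyEmbedded K) :
    ∃ M : Subgroup ↥(Cfsg.pResidual 2 G), Cfsg.IsStronglyEmbedded M := by
  set H := Cfsg.pResidual 2 G with hH
  haveI : H.Normal := Cores.pResidual_normal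
  obtain ⟨hKt, hKe, hKo⟩ := hK
  obtain ⟨z, hz, hzH, hzo⟩ := c.exists_central_mem
  have hmeet : ∀ g : ↥X, g ∉ K → ∀ t : ↥X, t ∈ K → g⁻¹ * t * g ∈ K → orderOf t ≠ 2 := by
    intro g hg t ht htg hto
    have h1 : t ∈ K ⊓ K.map (MulAut.conj g).toMonoidHom :=
      mem_inf.2 ⟨ht, ⟨g⁻¹ * t * g, htg, by simp [mul_assoc]⟩⟩
    have h2 := Subgroup.orderOf_dvd_natCard _ h1
    rw [hto] at h2
    exact (Nat.not_even_iff_odd.2 (hKo g hg)) (even_iff_two_dvd.2 h2)
  obtain ⟨⟨t, htK⟩, ht⟩ := exists_prime_orderOf_dvd_card' (G := ↥K) 2 (even_iff_two_dvd.1 hKe)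
  have hto : orderOf t = 2 := (Subgroup.orderOf_mk t htK).symm.trans ht
  have htoG : orderOf (t : G) = 2 := by rw [orderOf_coe, hto]
  -- an involution of `H` commuting with `t` lies in `K`
  obtain ⟨h, hh⟩ := H39.exists_conj_le_sylow
    (IsPGroup.of_card (n := 1) (by rw [Nat.card_zpowers, htoG, pow_one]) :
      IsPGroup 2 (zpowers (t : G))) S
  set u : G := h⁻¹ * z * h with hu
  have huH : u ∈ H := by
    have := Normal.conj_mem (H := H) inferInstance z hzH h⁻¹
    rwa [inv_inv] at this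
  have huo : orderOf u = 2 := by
    rw [hu, show h⁻¹ * z * h = h⁻¹ * z * h⁻¹⁻¹ by group, ZC.orderOf_conj, hzo]
  have hut : u * (t : G) = (t : G) * u := by
    have h1 := ZC.zOne_comm hz (hh _ (mem_zpowers (t : G)))
    calc u * (t : G) = h⁻¹ * (z * (h * t * h⁻¹)) * h := by rw [hu]; group
      _ = h⁻¹ * (h * t * h⁻¹ * z) * h := by rw [h1]
      _ = (t : G) * u := by rw [hu]; group
  have huK : (⟨u, hHX huH⟩ : ↥X) ∈ K := by
    by_contra hcon
    refine hmeet _ hcon t htK ?_ hto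
    have h1 : (⟨u, hHX huH⟩ : ↥X)⁻¹ * t * ⟨u, hHX huH⟩ = t := Subtype.ext (by
      show u⁻¹ * (t : G) * u = t
      rw [mul_assoc, ← hut, inv_mul_cancel_left])
    rwa [h1]
  refine ⟨K.comap (inclusion hHX), ?_, ?_, fun g hg => ?_⟩
  · intro htop
    obtain ⟨g, hg⟩ : ∃ g, g ∉ K := by
      by_contra hcon
      push Not at hcon
      exact hKt (eq_top_iff.2 fun x _ => hcon x)
    refine hmeet g hg ⟨u, hHX huH⟩ huK ?_ (by rw [Subgroup.orderOf_mk, huo])
    have hmem : (g : G)⁻¹ * u * g ∈ H := by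
      have := Normal.conj_mem (H := H) inferInstance u huH (g : G)⁻¹
      rwa [inv_inv] at this
    exact (htop.ge (mem_top (⟨_, hmem⟩ : ↥H)) : inclusion hHX ⟨_, hmem⟩ ∈ K)
  · rw [even_iff_two_dvd, ← huo, ← Subgroup.orderOf_mk u huH]
    exact Subgroup.orderOf_dvd_natCard _ (show (⟨u, huH⟩ : ↥H) ∈ K.comap (inclusion hHX) from huK)
  · refine (hKo (inclusion hHX g) hg).of_dvd_nat ?_
    rw [← card_map_of_injective (inclusion_injective hHX)]
    refine card_dvd_of_le ?_
    rintro _ ⟨x, ⟨hx, hx'⟩, rfl⟩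
    obtain ⟨y, hy, rfl⟩ := hx'
    exact ⟨hx, ⟨inclusion hHX y, hy, by simp⟩⟩

/-- The hypothesis on centralisers passes to a normal subgroup containing every `Ω₁(Z(S))`. -/
theorem zc_normal (hZ : ∀ S : Sylow 2 G, centralizer (zOne S : Set G) ≤
      normalizer ((S : Subgroup G) : Set G)) (S : Sylow 2 G) {X : Subgroup G} [X.Normal]
    (hZX : zOne S ≤ X) (P : Sylow 2 ↥X) :
    centralizer (Cfsg.omegaCenterOf (P : Subgroup ↥X) : Set ↥X) ≤
      normalizer ((P : Subgroup ↥X) : Set ↥X) := by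
  obtain ⟨S', hS'⟩ := (P.isPGroup'.map X.subtype).exists_le_sylow
  have hle : (P : Subgroup ↥X) ≤ (S' : Subgroup G).subgroupOf X :=
    fun p hp => hS' ⟨p, hp, rfl⟩
  have hP : (S' : Subgroup G).subgroupOf X = P := P.is_maximal' S'.isPGroup'.comap_subtype hle
  obtain ⟨h, hh⟩ := H39.exists_conj_le_sylow S'.isPGroup' S
  have himg : (S' : Subgroup G).map (MulAut.conj h).toMonoidHom = S := by
    refine eq_of_le_of_card_ge (ZC.map_conj_le hh) ?_
    rw [H39.card_map_conj, S'.card_eq_multiplicity, S.card_eq_multiplicity]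
  have hZ'X : zOne S' ≤ X := fun w hw => by
    obtain ⟨⟨hwS, hwc⟩, hw2⟩ := ZC.mem_omega_center.1 hw
    have h1 : h * w * h⁻¹ ∈ zOne S := ZC.mem_zOne (hh w hwS) (ZC.conj_sq hw2) fun s hs => by
      obtain ⟨s', hs', rfl⟩ := himg.ge hs
      show h * s' * h⁻¹ * (h * w * h⁻¹) = h * w * h⁻¹ * (h * s' * h⁻¹)
      rw [conj_mul, conj_mul, mem_centralizer_iff.1 hwc s' hs']
    have h2 := Normal.conj_mem (H := X) inferInstance _ (hZX h1) h⁻¹
    simpa [mul_assoc] using h2
  intro x hx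
  have hxN : (x : G) ∈ normalizer ((S' : Subgroup G) : Set G) := by
    refine hZ S' (mem_centralizer_iff.2 fun w hw => ?_)
    obtain ⟨⟨hwS, hwc⟩, hw2⟩ := ZC.mem_omega_center.1 hw
    refine congrArg Subtype.val (mem_centralizer_iff.1 hx (⟨w, hZ'X hw⟩ : ↥X) ?_)
    rw [SetLike.mem_coe, Cfsg.omegaCenterOf, ZC.mem_omega_center, ← hP]
    exact ⟨⟨hwS, mem_centralizer_iff.2 fun p hp =>
      Subtype.ext (mem_centralizer_iff.1 hwc (p : G) hp)⟩, Subtype.ext hw2⟩
  refine H39.mem_normalizer_of_conj_mem fun p hp => ?_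
  rw [← hP] at hp ⊢
  exact (mem_normalizer_iff.1 hxN (p : G)).1 hp

/-- The case with an elementary subgroup of order 8. -/
theorem highTwo {E : Subgroup G} {z : G} (c : ZC.Setting S E z)
    (hN : ∀ L : Subgroup G, Cfsg.IsTwoLocal L → Group.IsSolvable L)
    (hZ : ∀ S : Sylow 2 G, centralizer (zOne S : Set G) ≤ normalizer ((S : Subgroup G) : Set G)) :
    (∃ M : Subgroup ↥(Cfsg.pResidual 2 G), Cfsg.IsStronglyEmbedded M) ∨
      DihedralLike ((S : Subgroup G) ⊓ Cfsg.pResidual 2 G) := by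
  rcases c.high with h | hL
  · exact Or.inl h
  set H := Cfsg.pResidual 2 G with hH
  set X := H ⊔ zOne S with hX
  haveI : H.Normal := Cores.pResidual_normal
  haveI : X.Normal := c.residual_sup_normal
  have hHX : H ≤ X := le_sup_left
  have hO : Cfsg.pCore 2 ↥X = ⊥ := (map_eq_bot_iff_of_injective _ X.subtype_injective).1
    (le_bot_iff.1 ((Cores.map_pCore_le_of_normal (p := 2) X).trans c.two.le))
  have hN' : ∀ N : Subgroup ↥X, Cfsg.IsTwoLocal N → Group.IsSolvable ↥N := by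
    rintro _ ⟨T, hT, hT1, rfl⟩
    haveI := hN _ ⟨T.map X.subtype, hT.map _, fun h =>
      hT1 ((map_eq_bot_iff_of_injective _ X.subtype_injective).1 h), rfl⟩
    exact Group.isSolvable_of_isSolvable_injective
      (f := (X.subtype.comp (normalizer (T : Set ↥X)).subtype).codRestrict
        (normalizer ((T.map X.subtype : Subgroup G) : Set G))
        fun x => le_normalizer_map X.subtype ⟨x, x.2, rfl⟩)
      (fun a b hab => by
        have h1 := congrArg Subtype.val hab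
        exact Subtype.ext (Subtype.ext h1))
  rcases core hL hN' (fun P => zc_normal hZ S le_sup_right P) hO with
    ⟨K, hK⟩ | ⟨T, P, P', F, F', d, d', w, f, f', C, hd, -⟩
  · exact Or.inl (stronglyEmbedded_residual c.toHyp hHX hK)
  refine Or.inr ?_
  set F₀ := F.map X.subtype with hF₀
  have hF₀4 : Four F₀ := by
    refine ⟨⟨⟨⟨?_⟩⟩, ?_⟩, by rw [hF₀, card_map_of_injective X.subtype_injective, C.left.four.2]⟩
    · rintro ⟨_, a, ha, rfl⟩ ⟨_, b, hb, rfl⟩
      exact Subtype.ext (congrArg (fun w : ↥X => (w : G)) (H36.NilPPrime.elem_comm C.left.four.1 ha hb))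
    · rintro _ ⟨a, ha, rfl⟩
      rw [← map_pow, C.left.four.1.2 a ha, map_one]
  have hF₀H : F₀ ≤ H := (map_mono C.left.inH).trans (Cores.map_pResidual_subtype_le X)
  have hres : H ≤ (Cfsg.pResidual 2 ↥X).map X.subtype := Cores.pResidual_le fun g hg =>
    ⟨⟨g, hHX (Cores.mem_pResidual_of_coprime hg)⟩,
      Cores.mem_pResidual_of_coprime (by rwa [Subgroup.orderOf_mk]), rfl⟩
  have hself : ∀ x ∈ H, x ∈ centralizer (F₀ : Set G) → x ∈ F₀ := by
    intro x hx hxc
    obtain ⟨y, hy, rfl⟩ := hres hx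
    exact ⟨y, C.self_centralizing hd hy (mem_centralizer_iff.2 fun a ha =>
      Subtype.ext (mem_centralizer_iff.1 hxc _ ⟨a, ha, rfl⟩)), rfl⟩
  obtain ⟨h, hh⟩ := H39.exists_conj_le_sylow (H36.NilPPrime.elem_isPGroup hF₀4.1) S
  refine dihedralLike_of_four (S.isPGroup'.to_le inf_le_left) (H70.Balanced.four_map hF₀4 h)
    (ZC.map_conj_le fun a ha => mem_inf.2 ⟨hh a ha, Normal.conj_mem inferInstance a (hF₀H ha) h⟩)
    fun x hx hxc => ?_
  rw [H39.mem_map_conj]
  refine hself _ ?_ (mem_centralizer_iff.2 fun a ha => ?_)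
  · have := Normal.conj_mem (H := H) inferInstance x hx.2 h⁻¹
    rwa [inv_inv] at this
  · have h1 : h * a * h⁻¹ * x = x * (h * a * h⁻¹) := mem_centralizer_iff.1 hxc _ ⟨a, ha, rfl⟩
    calc a * (h⁻¹ * x * h) = h⁻¹ * (h * a * h⁻¹ * x) * h := by group
      _ = h⁻¹ * x * h * a := by rw [h1]; group

end Cfsg.Agent.H57.ZN
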