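import Cfsg.Agent.H57.ZN.Piece
import Cfsg.Agent.H57.ZC.Eight
import Cfsg.Agent.S3246
import Mathlib.GroupTheory.Transfer

/-!
Two maximal 2-local subgroups `S₄` or `2 × S₄` over one Sylow 2-subgroup: the two four-groups
generate a dihedral group `D` of order 8 inside `O²(G)`, which omits the central involutions.
-/

set_option autoImplicit false
set_option linter.unusedSectionVars false
set_option linter.style.haveILetI false

namespace Cfsg.Agent.H57.ZN

open Subgroup
open Cfsg.Agent.H70.Balanced (Four)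
open scoped Pointwise

universe u

variable {G : Type u} [Group G] [Finite G]

local instance : Fact (Nat.Prime 2) := ⟨Nat.prime_two⟩

variable {T P P' F F' : Subgroup G} {c c' : G}

theorem normalizer_eq (X : Piece T P F c) : normalizer (F : Set G) = P :=
  X.max.2 _ ⟨F, H36.NilPPrime.elem_isPGroup X.four.1, fun h => by
    have := X.four.2
    rw [h, card_bot] at this
    omega, rfl⟩ X.nor

theorem eq_of_normalizes (X : Piece T P F c) (Y : Piece T P' F' c') {Q : Subgroup G}
    (hQ : IsPGroup 2 Q) (h1 : Q ≠ ⊥) (hP : P ≤ normalizer (Q : Set G))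
    (hP' : P' ≤ normalizer (Q : Set G)) : P = P' :=
  (X.max.2 _ ⟨Q, hQ, h1, rfl⟩ hP).symm.trans (Y.max.2 _ ⟨Q, hQ, h1, rfl⟩ hP')

theorem centralizer_eq (X : Piece T P F c) (hc : c ≠ 1) : centralizer ({c} : Set G) = P := by
  have ho : orderOf c = 2 := ZC.two_of_sq (by rw [pow_two]; exact X.csq) hc
  refine X.max.2 _ ⟨zpowers c, IsPGroup.of_card (n := 1) (by rw [Nat.card_zpowers, ho, pow_one]),
    fun h => hc (zpowers_eq_bot.1 h), (S3246.normalizer_zpowers_invol ho).symm⟩ ?_
  exact fun x hx => mem_centralizer_singleton_iff.2 (X.ccomm x hx)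

/-- The basic configuration: noncommuting `f ∈ F`, `f' ∈ F'` and `z` central in `T` with
`F ∩ F' = ⟨z⟩`. -/
structure Config (T P P' F F' : Subgroup G) (c c' z f f' : G) : Prop where
  left : Piece T P F c
  right : Piece T P' F' c'
  ne : P ≠ P'
  zF : z ∈ F
  zF' : z ∈ F'
  zo : orderOf z = 2
  zc : ∀ t ∈ T, t * z = z * t
  fF : f ∈ F
  f'F : f' ∈ F'
  f1 : f ≠ 1
  fz : f ≠ z
  f'1 : f' ≠ 1
  f'z : f' ≠ z
  noncomm : f * f' ≠ f' * f

theorem exists_config (X : Piece T P F c) (Y : Piece T P' F' c') (hne : P ≠ P') :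
    ∃ z f f', Config T P P' F F' c c' z f f' := by
  have hTp := X.syl.2.1
  haveI : (F.subgroupOf T).Normal :=
    (normal_subgroupOf_iff_le_normalizer X.le).2 (X.syl.1.trans X.nor)
  obtain ⟨w, hwF, hwc, hwo⟩ := PGroups.exists_mem_center_orderOf_eq (p := 2) hTp (F.subgroupOf T)
    (fun h => by
      have h1 := congrArg (Subgroup.map T.subtype) h
      rw [subgroupOf_map_subtype, inf_eq_left.2 X.le, Subgroup.map_bot] at h1
      have := X.four.2
      rw [h1, card_bot] at this
      omega)
  set z : G := (w : G) with hz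
  have hzo : orderOf z = 2 := by rw [hz, orderOf_coe, hwo]
  have hzc : ∀ t ∈ T, t * z = z * t := fun t ht =>
    congrArg Subtype.val (mem_center_iff.1 hwc ⟨t, ht⟩)
  have hzF : z ∈ F := hwF
  -- `F'` does not centralise `F`
  obtain ⟨f', hf', hf'c⟩ : ∃ f' ∈ F', f' ∉ centralizer (F : Set G) := by
    by_contra hcon
    push Not at hcon
    have hcF : ∀ a ∈ F, ∀ b ∈ F', a * b = b * a := fun a ha b hb =>
      mem_centralizer_iff.1 (hcon b hb) a ha
    have hQ : Cfsg.IsElementaryAbelian 2 (F ⊔ F' : Subgroup G) :=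
      Fusion.Signalizer.elementary_sup X.four.1 Y.four.1 hcF
    have key : ∀ {A B R : Subgroup G} {d : G}, Piece T R A d → A ≠ A ⊔ B → B ≤ centralizer (A : Set G) →
        B ≤ R → Cfsg.IsElementaryAbelian 2 (A ⊔ B : Subgroup G) → R ≤ normalizer ((A ⊔ B : Subgroup G) : Set G) := by
      intro A B R d Z hAB hBc hBR hel
      have hAR : A ≤ R := Z.le.trans Z.syl.1
      set Q := R ⊓ centralizer (A : Set G) with hQdef
      have hcard : Nat.card Q ≤ 8 := by
        refine (card_le_of_le (?_ : Q ≤ A ⊔ zpowers d)).trans ?_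
        · intro x hx
          rcases Z.cent x hx.1 hx.2 with h | h
          · exact mem_sup_left h
          · have h2 : x = x * d * d := by rw [mul_assoc, Z.csq, mul_one]
            rw [h2]
            exact mul_mem (mem_sup_left h) (mem_sup_right (mem_zpowers d))
        · have hd : Nat.card ↥(zpowers d) ≤ 2 := by
            rw [Nat.card_zpowers]
            exact orderOf_le_of_pow_eq_one two_pos (by rw [pow_two]; exact Z.csq)
          have hset : ((A ⊔ zpowers d : Subgroup G) : Set G) = (A : Set G) * (zpowers d : Set G) :=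
            coe_mul_of_left_le_normalizer_right _ _ (hAR.trans fun x hx =>
              centralizer_le_normalizer _ (mem_centralizer_iff.2 fun y hy => by
                obtain ⟨i, rfl⟩ := mem_zpowers_iff.1 hy
                exact ((show Commute x d from Z.ccomm x hx).zpow_right i).eq.symm))
          calc Nat.card ↥(A ⊔ zpowers d) = ((A : Set G) * (zpowers d : Set G)).ncard := by
                rw [← hset, ← Nat.card_coe_set_eq]; rfl
            _ ≤ (A : Set G).ncard * (zpowers d : Set G).ncard := Set.natCard_mul_le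
            _ ≤ 4 * 2 := by
                rw [← Nat.card_coe_set_eq, ← Nat.card_coe_set_eq]
                exact Nat.mul_le_mul (le_of_eq Z.four.2) hd
            _ = 8 := rfl
      have hAQ : A ⊔ B ≤ Q := sup_le (le_inf hAR fun a ha => mem_centralizer_iff.2 fun b hb =>
        H36.NilPPrime.elem_comm Z.four.1 hb ha) (le_inf hBR hBc)
      have h8 : 8 ≤ Nat.card ↥(A ⊔ B) := by
        have h := H70.Balanced.card_two_le_of_lt (H36.NilPPrime.elem_isPGroup hel)
          (lt_of_le_of_ne le_sup_left hAB)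
        rw [Z.four.2] at h
        omega
      rw [eq_of_le_of_card_ge hAQ (hcard.trans h8)]
      intro r hr
      refine H39.mem_normalizer_of_conj_mem fun x hx => mem_inf.2 ⟨mul_mem (mul_mem hr hx.1) (inv_mem hr), ?_⟩
      refine mem_centralizer_iff.2 fun a ha => ?_
      have h2 := mem_centralizer_iff.1 hx.2 (r⁻¹ * a * r)
        (by simpa using (mem_normalizer_iff.1 (Z.nor (inv_mem hr)) a).1 ha)
      calc a * (r * x * r⁻¹) = r * (r⁻¹ * a * r * x) * r⁻¹ := by group
        _ = r * x * r⁻¹ * a := by rw [h2]; group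
    by_cases hFF : F = F'
    · exact hne (eq_of_normalizes X Y (H36.NilPPrime.elem_isPGroup X.four.1) (fun h => by
        have := X.four.2
        rw [h, card_bot] at this
        omega) X.nor (hFF ▸ Y.nor))
    have hn1 : F ≠ F ⊔ F' := fun h => hFF (eq_of_le_of_card_ge (h ▸ le_sup_right : F' ≤ F)
      (by rw [X.four.2, Y.four.2])).symm
    have hn2 : F' ≠ F' ⊔ F := fun h => hFF (eq_of_le_of_card_ge (h ▸ le_sup_right : F ≤ F')
      (by rw [X.four.2, Y.four.2]))
    refine hne (eq_of_normalizes X Y (H36.NilPPrime.elem_isPGroup hQ)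
      (fun h => by
        have h1 := card_le_of_le (le_sup_left : F ≤ F ⊔ F')
        rw [h, card_bot, X.four.2] at h1
        omega)
      (key X hn1 (fun b hb => hcon b hb) (Y.le.trans X.syl.1) hQ) ?_)
    have h3 := key Y hn2 (fun b hb => mem_centralizer_iff.2 fun a ha => (hcF b hb a ha).symm)
      (X.le.trans Y.syl.1) (by rw [sup_comm]; exact hQ)
    rwa [sup_comm]
  have hz1 := ZC.ne_one_of_two hzo
  obtain ⟨f, hf, hfc⟩ : ∃ f ∈ F, ¬ f * f' = f' * f := by
    by_contra hcon
    push Not at hcon
    exact hf'c (mem_centralizer_iff.2 hcon)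
  have hf1 : f ≠ 1 := fun h => hfc (by rw [h, one_mul, mul_one])
  have hfz : f ≠ z := fun h => hfc (by rw [h, hzc f' (Y.le hf')])
  -- `z` is a square
  have hzF' : z ∈ F' := by
    have hf'T := Y.le hf'
    have hconj := ZC.conj_four X.four hzF hf hz1 hf1 hfz (X.nor (X.syl.1 hf'T)) (hzc f' hf'T) hf'c
    have h2 : f' * f * (f' * f) = z := by
      have hsq' : f' * f' = 1 := by rw [← pow_two]; exact Y.four.1.2 f' hf'
      have hinv : f'⁻¹ = f' := inv_eq_of_mul_eq_one_right hsq'
      rw [hinv] at hconj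
      calc f' * f * (f' * f) = (f' * f * f') * f := by group
        _ = f * z * f := by rw [hconj]
        _ = f * f * z := by rw [mul_assoc, ← hzc f (X.le hf)]; group
        _ = z := by rw [← pow_two, X.four.1.2 f hf, one_mul]
    rw [← h2]
    exact Y.sq _ (mul_mem hf'T (X.le hf))
  exact ⟨z, f, f', X, Y, hne, hzF, hzF', hzo, hzc, hf, hf', hf1, hfz,
    fun h => hfc (by rw [h, one_mul, mul_one]),
    fun h => hf'c (h ▸ mem_centralizer_iff.2 fun a ha => (hzc a (X.le ha))), hfc⟩

namespace Config

variable {z f f' : G}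

theorem symm (C : Config T P P' F F' c c' z f f') : Config T P' P F' F c' c z f' f :=
  ⟨C.right, C.left, C.ne.symm, C.zF', C.zF, C.zo, C.zc, C.f'F, C.fF, C.f'1, C.f'z, C.f1, C.fz,
    fun h => C.noncomm h.symm⟩

theorem cases (C : Config T P P' F F' c c' z f f') {a : G} (ha : a ∈ F) :
    a = 1 ∨ a = z ∨ a = f ∨ a = f * z :=
  ZC.four_cases C.left.four C.zF C.fF (ZC.ne_one_of_two C.zo) C.f1 C.fz ha

theorem inf_eq (C : Config T P P' F F' c c' z f f') {a : G} (ha : a ∈ F) (ha' : a ∈ F') :
    a = 1 ∨ a = z := by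
  rcases C.cases ha with h | h | h | h
  · exact Or.inl h
  · exact Or.inr h
  · exact absurd (H36.NilPPrime.elem_comm C.right.four.1 (h ▸ ha') C.f'F) C.noncomm
  · exfalso
    have h1 := H36.NilPPrime.elem_comm C.right.four.1 (h ▸ ha') C.f'F
    have h2 := C.zc f' (C.right.le C.f'F)
    refine C.noncomm (mul_right_cancel (b := z) ?_)
    calc f * f' * z = f * (f' * z) := by group
      _ = f * z * f' := by rw [h2]; group
      _ = f' * (f * z) := h1
      _ = f' * f * z := by group

/-- `f'` moves `f` by `z`. -/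
theorem conj_f (C : Config T P P' F F' c c' z f f') : f' * f * f'⁻¹ = f * z :=
  ZC.conj_four C.left.four C.zF C.fF (ZC.ne_one_of_two C.zo) C.f1 C.fz
    (C.left.nor (C.left.syl.1 (C.right.le C.f'F))) (C.zc f' (C.right.le C.f'F))
    fun h => C.noncomm (mem_centralizer_iff.1 h f C.fF)

theorem dihedral_le (C : Config T P P' F F' c c' z f f') :
    F ⊔ F' ≤ T ∧ F ⊔ F' ≤ P ∧ F ⊔ F' ≤ P' ∧ F ⊔ F' ≤ Cfsg.pResidual 2 G :=
  have h : F ⊔ F' ≤ T := sup_le C.left.le C.right.le
  ⟨h, h.trans C.left.syl.1, h.trans C.right.syl.1, sup_le C.left.inH C.right.inH⟩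

theorem card_dihedral (C : Config T P P' F F' c c' z f f') : Nat.card ↥(F ⊔ F') = 8 := by
  have hset : ((F ⊔ F' : Subgroup G) : Set G) = (F : Set G) * (F' : Set G) :=
    coe_mul_of_left_le_normalizer_right _ _ (C.left.le.trans (C.right.syl.1.trans C.right.nor))
  have h16 : Nat.card ↥(F ⊔ F') ≤ 16 :=
    calc Nat.card ↥(F ⊔ F') = ((F : Set G) * (F' : Set G)).ncard := by
          rw [← hset, ← Nat.card_coe_set_eq]; rfl
      _ ≤ (F : Set G).ncard * (F' : Set G).ncard := Set.natCard_mul_le
      _ = 16 := by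
          rw [← Nat.card_coe_set_eq, ← Nat.card_coe_set_eq]
          show Nat.card F * Nat.card F' = 16
          rw [C.left.four.2, C.right.four.2]
  have hp : IsPGroup 2 ↥(F ⊔ F') := C.left.syl.2.1.to_le C.dihedral_le.1
  have hlt : F < F ⊔ F' := lt_of_le_of_ne le_sup_left fun h => C.noncomm
    (H36.NilPPrime.elem_comm C.left.four.1 C.fF (h ▸ mem_sup_right C.f'F))
  have h8 := H70.Balanced.card_two_le_of_lt hp hlt
  rw [C.left.four.2] at h8
  -- two products giving the same element
  have hne16 : Nat.card ↥(F ⊔ F') ≠ 16 := by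
    intro h
    have hinj : Function.Injective (fun x : ↥F × ↥F' => (⟨(x.1 : G) * x.2,
        mul_mem (mem_sup_left x.1.2) (mem_sup_right x.2.2)⟩ : ↥(F ⊔ F'))) := by
      refine ((Nat.bijective_iff_surjective_and_card _).2 ⟨fun y => ?_, ?_⟩).1
      · obtain ⟨a, ha, b, hb, hab⟩ := Set.mem_mul.1 (hset ▸ y.2 : (y : G) ∈ (F : Set G) * (F' : Set G))
        exact ⟨(⟨a, ha⟩, ⟨b, hb⟩), Subtype.ext hab⟩
      · rw [Nat.card_prod, C.left.four.2, C.right.four.2, h]
    have h2 := @hinj (⟨z, C.zF⟩, ⟨z, C.zF'⟩) (1, 1) (Subtype.ext (by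
      show z * z = (1 : G) * 1
      rw [one_mul, ZC.mul_self_eq_one C.zo]))
    exact ZC.ne_one_of_two C.zo (congrArg Subtype.val (congrArg Prod.fst h2))
  obtain ⟨n, hn⟩ := IsPGroup.iff_card.1 hp
  rw [hn] at h16 h8 hne16 ⊢
  rcases n with _ | _ | _ | _ | n
  · norm_num at h8
  · norm_num at h8
  · norm_num at h8
  · norm_num
  · exfalso
    have h32 : n = 0 := by
      by_contra hn0
      have : 32 ≤ 2 ^ (n + 1 + 1 + 1 + 1) := by
        calc 32 = 2 ^ 5 := by norm_num
          _ ≤ _ := Nat.pow_le_pow_right two_pos (by omega)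
      omega
    subst h32
    exact hne16 (by norm_num)

theorem square_eq (C : Config T P P' F F' c c' z f f') {t : G} (ht : t ∈ T) :
    t * t = 1 ∨ t * t = z := C.inf_eq (C.left.sq t ht) (C.right.sq t ht)

theorem mem_decomp (C : Config T P P' F F' c c' z f f') {d : G} (hd : d ∈ F ⊔ F') :
    ∃ a ∈ F, ∃ b ∈ F', d = a * b := by
  have hset : ((F ⊔ F' : Subgroup G) : Set G) = (F : Set G) * (F' : Set G) :=
    coe_mul_of_left_le_normalizer_right _ _ (C.left.le.trans (C.right.syl.1.trans C.right.nor))
  obtain ⟨a, ha, b, hb, hab⟩ := Set.mem_mul.1 (hset ▸ hd : d ∈ (F : Set G) * (F' : Set G))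
  exact ⟨a, ha, b, hb, hab.symm⟩

/-- An involution of `D` lies in one of the two four-groups. -/
theorem mem_four_of_sq (C : Config T P P' F F' c c' z f f') {d : G} (hd : d ∈ F ⊔ F')
    (hd2 : d * d = 1) : d ∈ F ∨ d ∈ F' := by
  obtain ⟨a, ha, b, hb, rfl⟩ := C.mem_decomp hd
  have ha2 : a * a = 1 := by rw [← pow_two]; exact C.left.four.1.2 a ha
  have hb2 : b * b = 1 := by rw [← pow_two]; exact C.right.four.1.2 b hb
  have hab : a * b = b * a := by
    have h1 := inv_eq_of_mul_eq_one_right hd2
    rw [mul_inv_rev, inv_eq_of_mul_eq_one_right ha2, inv_eq_of_mul_eq_one_right hb2] at h1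
    exact h1.symm
  rcases C.cases ha with rfl | rfl | h | h
  · exact Or.inr (by rw [one_mul]; exact hb)
  · exact Or.inr (mul_mem C.zF' hb)
  · refine Or.inl (mul_mem ha ?_)
    rcases C.symm.cases hb with rfl | rfl | h' | h'
    · exact one_mem _
    · exact C.zF
    · exact absurd (h ▸ h' ▸ hab) C.noncomm
    · exfalso
      subst h h'
      refine C.noncomm (mul_right_cancel (b := z) ?_)
      rw [mul_assoc, hab, mul_assoc, mul_assoc, C.zc a (C.left.le ha)]
  · refine Or.inl (mul_mem ha ?_)
    rcases C.symm.cases hb with rfl | rfl | h' | h'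
    · exact one_mem _
    · exact C.zF
    · exfalso
      subst h h'
      refine C.noncomm (mul_right_cancel (b := z) ?_)
      rw [mul_assoc, C.zc b (C.right.le hb), ← mul_assoc, hab, ← mul_assoc]
    · exfalso
      subst h h'
      have hzf := C.zc f (C.left.le C.fF)
      have hzf' := C.zc f' (C.right.le C.f'F)
      refine C.noncomm ?_
      calc f * f' = f * f' * (z * z) := by rw [ZC.mul_self_eq_one C.zo, mul_one]
        _ = f * (f' * z) * z := by group
        _ = f * (z * f') * z := by rw [hzf']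
        _ = f * z * (f' * z) := by group
        _ = f' * z * (f * z) := hab
        _ = f' * (z * f) * z := by group
        _ = f' * f * (z * z) := by rw [← hzf]; group
        _ = f' * f := by rw [ZC.mul_self_eq_one C.zo, mul_one]

theorem not_isConj_one (C : Config T P P' F F' c c' z f f') {a : G} (ha : a ∈ F) (ha1 : a ≠ 1) :
    IsConj z a := by
  obtain ⟨p, -, hp⟩ := C.left.trans z C.zF (ZC.ne_one_of_two C.zo) a ha ha1
  exact isConj_iff.2 ⟨p, hp⟩

/-! ### The case `2 × S₄` -/

theorem c_notMem (C : Config T P P' F F' c c' z f f') (hc : c ≠ 1) : c ∉ F ⊔ F' := by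
  intro h
  rcases C.mem_four_of_sq h C.left.csq with h1 | h1
  · exact hc (C.left.cnot h1)
  · rcases C.inf_eq C.zF C.zF' with h2 | h2
    · exact ZC.ne_one_of_two C.zo h2
    · rcases C.symm.cases h1 with h3 | h3 | h3 | h3
      · exact hc h3
      · exact hc (C.left.cnot (h3.symm ▸ C.zF))
      · exact C.noncomm ((C.left.ccomm f (C.left.syl.1 (C.left.le C.fF))).trans (by rw [h3]) |> fun e => by
          rw [h3] at e; exact e)
      · have e := C.left.ccomm f (C.left.syl.1 (C.left.le C.fF))
        rw [h3] at e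
        refine C.noncomm (mul_right_cancel (b := z) ?_)
        rw [mul_assoc, e, mul_assoc, mul_assoc, ← C.zc f (C.left.le C.fF)]

theorem mem_cases (C : Config T P P' F F' c c' z f f') (hc : c ≠ 1) {t : G} (ht : t ∈ T) :
    t ∈ F ⊔ F' ∨ c * t ∈ F ⊔ F' := by
  by_contra hcon
  simp only [not_or] at hcon
  classical
  haveI := Fintype.ofFinite G
  set D := F ⊔ F' with hD
  have ho : orderOf c = 2 := ZC.two_of_sq (by rw [pow_two]; exact C.left.csq) hc
  set Ds := (Set.toFinset (D : Set G)) with hDs
  set Ds' := Ds.image (fun d => c * d) with hDs'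
  have hdisj : Disjoint Ds Ds' := by
    rw [Finset.disjoint_left]
    intro x hx hx'
    obtain ⟨d, hd, rfl⟩ := Finset.mem_image.1 hx'
    rw [hDs, Set.mem_toFinset] at hx hd
    exact C.c_notMem hc ((D.mul_mem_cancel_right hd).1 hx)
  have hsub : insert t (Ds ∪ Ds') ⊆ Set.toFinset (T : Set G) := by
    intro x hx
    rw [Set.mem_toFinset]
    rw [Finset.mem_insert, Finset.mem_union] at hx
    rcases hx with rfl | hx | hx
    · exact ht
    · rw [hDs, Set.mem_toFinset] at hx
      exact C.dihedral_le.1 hx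
    · obtain ⟨d, hd, rfl⟩ := Finset.mem_image.1 hx
      rw [hDs, Set.mem_toFinset] at hd
      exact mul_mem C.left.cmem (C.dihedral_le.1 hd)
  have hnot : t ∉ Ds ∪ Ds' := by
    rw [Finset.mem_union, not_or]
    refine ⟨fun h => hcon.1 (Set.mem_toFinset.1 h), fun h => ?_⟩
    obtain ⟨d, hd, rfl⟩ := Finset.mem_image.1 h
    refine hcon.2 ?_
    rw [← mul_assoc, C.left.csq, one_mul]
    exact Set.mem_toFinset.1 hd
  have h := Finset.card_le_card hsub
  rw [Finset.card_insert_of_notMem hnot, Finset.card_union_of_disjoint hdisj, hDs',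
    Finset.card_image_of_injective _ (mul_right_injective c), hDs, Set.toFinset_card,
    Set.toFinset_card, ← Nat.card_eq_fintype_card, ← Nat.card_eq_fintype_card,
    show Nat.card ↥(D : Set G) = 8 from C.card_dihedral,
    show Nat.card ↥(T : Set G) = 8 * orderOf c from C.left.cardT, ho] at h
  omega

theorem c'_eq (C : Config T P P' F F' c c' z f f') (hc : c ≠ 1) : c' = c * z := by
  have hc' : c' ≠ 1 := fun h => by
    have h1 := C.left.cardT
    rw [C.right.cardT, h, orderOf_one, ZC.two_of_sq (by rw [pow_two]; exact C.left.csq) hc] at h1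
    omega
  have hne : c' ≠ c := fun h => C.ne (by rw [← centralizer_eq C.left hc, ← centralizer_eq C.right hc', h])
  rcases C.mem_cases hc C.right.cmem with h | h
  · exact absurd h (C.symm.c_notMem hc' |> fun h1 h2 => h1 (by rwa [sup_comm]))
  have hccT := mul_mem C.left.cmem C.right.cmem
  have hcomm : ∀ t ∈ T, t * (c * c') = c * c' * t := fun t ht =>
    ((show Commute t c from C.left.ccomm t (C.left.syl.1 ht)).mul_right
      (show Commute t c' from C.right.ccomm t (C.right.syl.1 ht))).eq
  have hsq : c * c' * (c * c') = 1 := by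
    calc c * c' * (c * c') = c * (c' * c) * c' := by group
      _ = c * (c * c') * c' := by rw [C.left.ccomm c' (C.left.syl.1 C.right.cmem)]
      _ = c * c * (c' * c') := by group
      _ = 1 := by rw [C.left.csq, C.right.csq, one_mul]
  rcases C.mem_four_of_sq h hsq with h1 | h1
  · rcases C.cases h1 with h2 | h2 | h2 | h2
    · refine absurd ?_ hne
      rw [← one_mul c', ← C.left.csq, mul_assoc, h2, mul_one]
    · rw [← h2, ← mul_assoc, C.left.csq, one_mul]
    · have := hcomm f' (C.right.le C.f'F)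
      rw [h2] at this
      exact absurd this.symm C.noncomm
    · have := hcomm f' (C.right.le C.f'F)
      rw [h2] at this
      refine absurd (mul_right_cancel (b := z) ?_) C.noncomm
      rw [mul_assoc, C.zc f' (C.right.le C.f'F), ← mul_assoc, ← this, mul_assoc]
  · rcases C.symm.cases h1 with h2 | h2 | h2 | h2
    · refine absurd ?_ hne
      rw [← one_mul c', ← C.left.csq, mul_assoc, h2, mul_one]
    · rw [← h2, ← mul_assoc, C.left.csq, one_mul]
    · have := hcomm f (C.left.le C.fF)
      rw [h2] at this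
      exact absurd this C.noncomm
    · have := hcomm f (C.left.le C.fF)
      rw [h2] at this
      refine absurd (mul_right_cancel (b := z) ?_) C.noncomm
      rw [mul_assoc, this, mul_assoc, mul_assoc, ← C.zc f (C.left.le C.fF)]

end Config

end Cfsg.Agent.H57.ZN
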