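import Cfsg.Agent.H57.ZC.Basic
import Cfsg.Prelude.Def_JComponents
import Mathlib.GroupTheory.Perm.Fin

/-!
A maximal 2-local subgroup isomorphic to `S₄` or to `S₄ × 2`, with its four-group `[P, P]'`.
-/

set_option autoImplicit false
set_option linter.unusedSectionVars false
set_option linter.style.haveILetI false

namespace Cfsg.Agent.H57.ZN

open Subgroup
open Cfsg.Agent.H70.Balanced (Four)

universe u

variable {G : Type u} [Group G] [Finite G]

local instance : Fact (Nat.Prime 2) := ⟨Nat.prime_two⟩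

/-- The symmetric group on four letters. -/
abbrev S4 : Type := Equiv.Perm (Fin 4)

/-- Membership in the normal four-group of `S₄`. -/
abbrev InV (x : S4) : Prop := x * x = 1 ∧ Equiv.Perm.sign x = 1

theorem inV_mul : ∀ x y : S4, InV x → InV y → InV (x * y) := by decide +kernel

theorem inV_conj : ∀ x y : S4, InV x → InV (y * x * y⁻¹) := by decide +kernel

theorem inV_comm : ∀ x y : S4, InV x → InV y → x * y = y * x := by decide +kernel

theorem inV_centralizer : ∀ x : S4, (∀ y, InV y → x * y = y * x) → InV x := by decide +kernel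

theorem inV_trans : ∀ x y : S4, InV x → InV y → x ≠ 1 → y ≠ 1 → ∃ p : S4, p * x * p⁻¹ = y := by
  decide +kernel

theorem inV_cubes : ∀ x : S4, InV x →
    ∃ a b : S4, a * a * a = 1 ∧ b * b * b = 1 ∧ a * b = x := by decide +kernel

theorem inV_square : ∀ x : S4, x * x * x = 1 ∨ InV (x * x) := by decide +kernel

theorem inV_card : Fintype.card {x : S4 // InV x} = 4 := by decide +kernel

/-- The normal four-group of `S₄`. -/
def klein : Subgroup S4 where
  carrier := {x | InV x}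
  one_mem' := by decide
  mul_mem' {x y} hx hy := inV_mul x y hx hy
  inv_mem' {x} hx := by
    show InV x⁻¹
    rw [show x⁻¹ = x from inv_eq_of_mul_eq_one_right hx.1]
    exact hx

/-- A maximal 2-local subgroup `P` that is `S₄` (then `c = 1`) or `⟨c⟩ × S₄`, with a Sylow
2-subgroup `T` and the four-group `F`. -/
structure Piece (T P F : Subgroup G) (c : G) : Prop where
  max : Cfsg.IsMaximalTwoLocal P
  syl : Cfsg.IsSylowTwoIn T P
  four : Four F
  le : F ≤ T
  nor : P ≤ normalizer (F : Set G)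
  cmem : c ∈ T
  csq : c * c = 1
  ccomm : ∀ x ∈ P, x * c = c * x
  cnot : c ∈ F → c = 1
  cent : ∀ x ∈ P, x ∈ centralizer (F : Set G) → x ∈ F ∨ x * c ∈ F
  sq : ∀ t ∈ T, t * t ∈ F
  trans : ∀ a ∈ F, a ≠ 1 → ∀ b ∈ F, b ≠ 1 → ∃ p ∈ P, p * a * p⁻¹ = b
  inH : F ≤ Cfsg.pResidual 2 G
  card : Nat.card P = 24 * orderOf c
  cardT : Nat.card T = 8 * orderOf c
  perm : ∃ π : ↥P →* S4, ∀ x : ↥P, π x = 1 → (x : G) = 1 ∨ (x : G) = c

/-- A 2-subgroup of `P` normalised by a Sylow 2-subgroup `T` of `P` lies in `T`. -/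
theorem le_of_sylowIn {T P Q : Subgroup G} (hT : Cfsg.IsSylowTwoIn T P) (hQP : Q ≤ P)
    (hQ : IsPGroup 2 Q) (hn : T ≤ normalizer (Q : Set G)) : Q ≤ T := by
  have hp : IsPGroup 2 (Q ⊔ T : Subgroup G) := hQ.to_sup_of_normal_left' hT.2.1 hn
  have h1 : T.relIndex (Q ⊔ T) * (Q ⊔ T).relIndex P = T.relIndex P :=
    relIndex_mul_relIndex _ _ _ le_sup_right (sup_le hQP hT.1)
  have hodd : Odd (T.relIndex (Q ⊔ T)) := hT.2.2.of_dvd_nat ⟨_, h1.symm⟩
  obtain ⟨n, hn⟩ := IsPGroup.iff_card.1 hp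
  obtain ⟨k, -, hk⟩ := (Nat.dvd_prime_pow Nat.prime_two).1 (hn ▸ relIndex_dvd_card T (Q ⊔ T))
  rcases k with _ | k
  · exact le_sup_left.trans (relIndex_eq_one.1 (by rw [hk, pow_zero]))
  · rw [hk] at hodd
    exact absurd hodd (Nat.not_odd_iff_even.2 (Nat.even_pow.2 ⟨even_two, k.succ_ne_zero⟩))

theorem card_sylowIn {T P : Subgroup G} (hT : Cfsg.IsSylowTwoIn T P) {b : ℕ}
    (h : Nat.card P = 2 ^ b * 3) : Nat.card T = 2 ^ b := by
  obtain ⟨a, ha⟩ := IsPGroup.iff_card.1 hT.2.1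
  have h1 : Nat.card T * T.relIndex P = Nat.card P := by
    rw [← relIndex_bot_left T, relIndex_mul_relIndex _ _ _ bot_le hT.1, relIndex_bot_left]
  rw [h, ha] at h1
  rw [ha]
  refine Nat.dvd_antisymm ?_ ?_
  · exact (Nat.Coprime.pow_left a (by norm_num : Nat.Coprime 2 3)).dvd_of_dvd_mul_right
      (Dvd.intro _ h1)
  · exact (Nat.Coprime.pow_left b (Nat.coprime_two_left.2 hT.2.2)).dvd_of_dvd_mul_right
      (Dvd.intro _ h1.symm)

theorem piece_of_section {T P : Subgroup G} (hmax : Cfsg.IsMaximalTwoLocal P)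
    (hsyl : Cfsg.IsSylowTwoIn T P) (π : ↥P →* S4) (σ : S4 →* ↥P) (hsec : ∀ x, π (σ x) = x)
    {c : G} (hcP : c ∈ P) (hπc : π ⟨c, hcP⟩ = 1) (hcsq : c * c = 1)
    (hcc : ∀ x ∈ P, x * c = c * x) (hker : ∀ x : ↥P, π x = 1 → (x : G) = 1 ∨ (x : G) = c)
    (hb : ∃ b, 24 * orderOf c = 2 ^ b * 3 ∧ 2 ^ b = 8 * orderOf c) :
    ∃ F, Piece T P F c := by
  set j : S4 →* G := P.subtype.comp σ with hj
  have hjinj : Function.Injective j :=
    P.subtype_injective.comp fun a b h => by rw [← hsec a, h, hsec]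
  set F := klein.map j with hF
  have hdec : ∀ x : ↥P, (x : G) = j (π x) ∨ (x : G) = j (π x) * c := by
    intro x
    have h1 : π ((σ (π x))⁻¹ * x) = 1 := by rw [map_mul, map_inv, hsec, inv_mul_cancel]
    rcases hker _ h1 with h | h
    · left
      have h2 : (σ (π x))⁻¹ * x = 1 := Subtype.ext h
      rw [inv_mul_eq_one] at h2
      exact congrArg Subtype.val h2.symm
    · right
      rw [hj, MonoidHom.comp_apply, coe_subtype, ← h]
      simp
  have hjP : ∀ a, j a ∈ P := fun a => (σ a).2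
  have hFP : F ≤ P := by
    rintro _ ⟨a, -, rfl⟩
    exact hjP a
  have hconj : ∀ x : G, ∀ hx : x ∈ P, ∀ a : S4, x * j a * x⁻¹ = j (π ⟨x, hx⟩ * a * (π ⟨x, hx⟩)⁻¹) := by
    intro x hx a
    rw [map_mul, map_mul, map_inv]
    rcases hdec ⟨x, hx⟩ with h | h <;> simp only at h
    · rw [← h]
    · have hc := hcc _ (hjP a)
      calc x * j a * x⁻¹ = j (π ⟨x, hx⟩) * c * j a * (j (π ⟨x, hx⟩) * c)⁻¹ := by rw [← h]
        _ = j (π ⟨x, hx⟩) * (c * j a) * c⁻¹ * (j (π ⟨x, hx⟩))⁻¹ := by group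
        _ = _ := by rw [← hc]; group
  have hnor : P ≤ normalizer (F : Set G) := fun x hx => H39.mem_normalizer_of_conj_mem fun y hy => by
    obtain ⟨a, ha, rfl⟩ := hy
    exact ⟨_, inV_conj _ _ ha, (hconj x hx a).symm⟩
  have hFe : Cfsg.IsElementaryAbelian 2 F := by
    refine ⟨⟨⟨?_⟩⟩, ?_⟩
    · rintro ⟨_, a, ha, rfl⟩ ⟨_, b, hb, rfl⟩
      refine Subtype.ext ?_
      show j a * j b = j b * j a
      rw [← map_mul, inV_comm a b ha hb, map_mul]
    · rintro _ ⟨a, ha, rfl⟩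
      rw [← map_pow, pow_two, ha.1, map_one]
  have hF4 : Four F := by
    refine ⟨hFe, ?_⟩
    rw [hF, card_map_of_injective hjinj]
    rw [show Nat.card ↥klein = Nat.card {x : S4 // InV x} from rfl, Nat.card_eq_fintype_card, inV_card]
  have hFT : F ≤ T := le_of_sylowIn hsyl hFP (H36.NilPPrime.elem_isPGroup hFe) (hsyl.1.trans hnor)
  have hcT : c ∈ T := by
    refine le_of_sylowIn hsyl (zpowers_le.2 hcP)
      (ZC.isPGroup_zpowers_of_pow (n := 1) (by rw [pow_one, pow_two, hcsq]))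
      (fun t ht => centralizer_le_normalizer _ (mem_centralizer_iff.2 fun y hy => ?_)) (mem_zpowers c)
    obtain ⟨i, rfl⟩ := mem_zpowers_iff.1 hy
    exact ((show Commute t c from hcc t (hsyl.1 ht)).zpow_right i).eq.symm
  have hcard : Nat.card P = 24 * orderOf c := by
    have hk : π.ker = zpowers (⟨c, hcP⟩ : ↥P) := by
      refine le_antisymm (fun x hx => ?_) (zpowers_le.2 hπc)
      rcases hker x hx with h | h
      · rw [show x = 1 from Subtype.ext h]; exact one_mem _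
      · rw [show x = ⟨c, hcP⟩ from Subtype.ext h]; exact mem_zpowers _
    rw [← π.ker.card_mul_index, index_ker, MonoidHom.range_eq_top.2 fun a => ⟨σ a, hsec a⟩, card_top,
      hk, Nat.card_zpowers, ← orderOf_coe, Nat.card_eq_fintype_card (α := S4), Fintype.card_perm,
      Fintype.card_fin]
    simp [Nat.factorial, mul_comm]
  obtain ⟨b, hb1, hb2⟩ := hb
  refine ⟨F, hmax, hsyl, hF4, hFT, hnor, hcT, hcsq, hcc, ?_, ?_, ?_, ?_, ?_, hcard,
    by rw [card_sylowIn hsyl (hcard.trans hb1), hb2], π, hker⟩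
  · rintro ⟨a, -, hca⟩
    have h1 : σ a = ⟨c, hcP⟩ := Subtype.ext hca
    have h2 : a = 1 := by rw [← hsec a, h1, hπc]
    rw [← hca, h2, map_one]
  · intro x hx hxc
    have hV : InV (π ⟨x, hx⟩) := inV_centralizer _ fun y hy => by
      have h := hconj x hx y
      rw [← mem_centralizer_iff.1 hxc (j y) ⟨y, hy, rfl⟩, mul_inv_cancel_right] at h
      have h2 := (hjinj h).symm
      rwa [mul_inv_eq_iff_eq_mul] at h2
    rcases hdec ⟨x, hx⟩ with h | h <;> simp only at h
    · exact Or.inl ⟨_, hV, h.symm⟩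
    · refine Or.inr ⟨_, hV, ?_⟩
      calc j (π ⟨x, hx⟩) = j (π ⟨x, hx⟩) * c * c := by rw [mul_assoc, hcsq, mul_one]
        _ = x * c := by rw [← h]
  · intro t ht
    have htP := hsyl.1 ht
    have hV : InV (π ⟨t, htP⟩ * π ⟨t, htP⟩) := by
      rcases inV_square (π ⟨t, htP⟩) with h | h
      · obtain ⟨k, hk⟩ := hsyl.2.1 ⟨t, ht⟩
        have hk' : (π ⟨t, htP⟩) ^ 2 ^ k = 1 := by
          rw [← map_pow, show (⟨t, htP⟩ : ↥P) ^ 2 ^ k = 1 from Subtype.ext (congrArg Subtype.val hk : _), map_one]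
        have h1 : orderOf (π ⟨t, htP⟩) = 1 := Nat.eq_one_of_dvd_coprimes
          (Nat.Coprime.pow_left k (by norm_num : Nat.Coprime 2 3)) (orderOf_dvd_of_pow_eq_one hk')
          (orderOf_dvd_of_pow_eq_one (by rw [pow_three, ← mul_assoc]; exact h))
        rw [orderOf_eq_one_iff.1 h1, mul_one]
        decide
      · exact h
    refine ⟨_, hV, ?_⟩
    rw [map_mul]
    rcases hdec ⟨t, htP⟩ with h | h <;> simp only at h
    · rw [← h]
    · have hc := hcc _ (hjP (π ⟨t, htP⟩))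
      generalize j (π ⟨t, htP⟩) = u at h hc ⊢
      subst h
      calc u * u = u * u * (c * c) := by rw [hcsq, mul_one]
        _ = u * (u * c) * c := by group
        _ = u * (c * u) * c := by rw [hc]
        _ = u * c * (u * c) := by group
  · rintro _ ⟨a, ha, rfl⟩ ha1 _ ⟨b, hb, rfl⟩ hb1'
    obtain ⟨p, hp⟩ := inV_trans a b ha hb (fun h => ha1 (by rw [h, map_one]))
      (fun h => hb1' (by rw [h, map_one]))
    exact ⟨j p, hjP p, by rw [← map_inv, ← map_mul, ← map_mul, hp]⟩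
  · rintro _ ⟨v, hv, rfl⟩
    obtain ⟨p, q, hp, hq, rfl⟩ := inV_cubes v hv
    have hmem : ∀ y : S4, y * y * y = 1 → j y ∈ Cfsg.pResidual 2 G := fun y hy =>
      Cores.mem_pResidual_of_coprime (Nat.Coprime.coprime_dvd_left
        (orderOf_dvd_of_pow_eq_one (by rw [← map_pow, pow_three, ← mul_assoc, hy, map_one]))
        (by norm_num))
    rw [map_mul]
    exact mul_mem (hmem p hp) (hmem q hq)

theorem piece_of_perm {T P : Subgroup G} (hmax : Cfsg.IsMaximalTwoLocal P)
    (hsyl : Cfsg.IsSylowTwoIn T P) (e : ↥P ≃* S4) : ∃ F, Piece T P F 1 :=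
  piece_of_section hmax hsyl e.toMonoidHom e.symm.toMonoidHom (fun x => e.apply_symm_apply x)
    (one_mem P) (map_one e.toMonoidHom) (one_mul 1) (fun x _ => by rw [one_mul, mul_one])
    (fun x hx => Or.inl (congrArg Subtype.val ((MulEquiv.map_eq_one_iff e).1 hx)))
    ⟨3, by rw [orderOf_one]; norm_num⟩

theorem piece_of_perm_prod {T P : Subgroup G} (hmax : Cfsg.IsMaximalTwoLocal P)
    (hsyl : Cfsg.IsSylowTwoIn T P) (e : ↥P ≃* S4 × Multiplicative (ZMod 2)) :
    ∃ F c, c ≠ 1 ∧ Piece T P F c := by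
  set w : Multiplicative (ZMod 2) := Multiplicative.ofAdd 1 with hw
  set c : ↥P := e.symm (1, w) with hc
  have hc1 : (c : G) ≠ 1 := fun h => by
    have h1 : c = 1 := Subtype.ext h
    rw [hc, MulEquiv.map_eq_one_iff] at h1
    exact absurd (congrArg Prod.snd h1) (by decide)
  have hc2 : (c : G) * c = 1 := by
    have h1 : c * c = 1 := by
      rw [hc, ← map_mul, show ((1, w) * (1, w) : S4 × Multiplicative (ZMod 2)) = 1 by decide, map_one]
    exact congrArg Subtype.val h1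
  have ho : orderOf (c : G) = 2 := ZC.two_of_sq (by rw [pow_two]; exact hc2) hc1
  obtain ⟨F, hF⟩ := piece_of_section hmax hsyl ((MonoidHom.fst _ _).comp e.toMonoidHom)
    (e.symm.toMonoidHom.comp (MonoidHom.inl _ _)) (fun x => by simp) (c := (c : G)) c.2
    (by simp [hc]) hc2 (fun x hx => congrArg Subtype.val (e.injective (a₁ := (⟨x, hx⟩ : ↥P) * c) (a₂ := c * ⟨x, hx⟩) (by
      rw [map_mul, map_mul, hc, e.apply_symm_apply]
      refine Prod.ext ?_ ?_
      · simp
      · simp [mul_comm])))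
    (fun x hx => by
      have h1 : (e x).1 = 1 := hx
      rcases (show ∀ a : Multiplicative (ZMod 2), a = 1 ∨ a = w by decide) (e x).2 with h | h
      · exact Or.inl (congrArg Subtype.val ((MulEquiv.map_eq_one_iff e).1 (Prod.ext h1 h)))
      · refine Or.inr (congrArg Subtype.val (e.injective ?_))
        rw [hc, e.apply_symm_apply]
        exact Prod.ext h1 h)
    ⟨4, by rw [ho]; norm_num⟩
  exact ⟨F, c, hc1, hF⟩

end Cfsg.Agent.H57.ZN
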